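import Cfsg.Agent.H995.Co1T.Main
import Cfsg.Agent.H146.Mon.Lift

/-!
# (T) in the form used for the Monster
-/

set_option autoImplicit false

namespace Cfsg.Agent.H995.Co1T

open Cfsg

/-- **Every nontrivial element of `Co1` is, up to conjugation, the image of a product of four involutions of `Co0`
without common fixed vectors.** -/
theorem four_all (x : Spor.Co1) (hx : x ≠ 1) : Cfsg.Agent.H146.Mon.Four x := main x hx

end Cfsg.Agent.H995.Co1T
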