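import Cfsg.Agent.H995.Co1T.Fix
import Cfsg.Agent.H995.Co1F.Std

/-!
# Common fixed vectors of three monomial involutions
-/

set_option autoImplicit false

namespace Cfsg.Agent.H995.Co1T

open Cfsg Cfsg.Agent.Leech.Code Cfsg.Agent.Leech.Basic
open Cfsg.Agent.SporadicA.Co0Mono
open Cfsg.Agent.H995.Co1F
open Cfsg.Agent.SporadicStructure.Co0Base (e8 e8_coe)

/-- the group generated by the three permutations has no fixed points on the cocode, and only the trivial ones on
the code -/
structure Gen3 (a b d : M24) : Prop where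
  y1 : ∀ f : GolayPt → ZMod 2, f ∘ (a : Equiv.Perm GolayPt).symm + f ∈ golayCode →
    f ∘ (b : Equiv.Perm GolayPt).symm + f ∈ golayCode → f ∘ (d : Equiv.Perm GolayPt).symm + f ∈ golayCode →
    f ∈ golayCode
  y2 : ∀ f ∈ golayCode, f ∘ (a : Equiv.Perm GolayPt).symm = f → f ∘ (b : Equiv.Perm GolayPt).symm = f →
    f ∘ (d : Equiv.Perm GolayPt).symm = f → ∀ i, f i = f none

/-- an exact monomial involution -/
def Exact (e : golayCode) (a : M24) : Prop :=
  a * a = 1 ∧ (signCo0 e * permCo0 a) * (signCo0 e * permCo0 a) = 1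

theorem exists_odd : ∃ w : leechLattice, ∀ i, (w : GolayPt → ℤ) i % 2 = 1 := by
  refine ⟨⟨_, Cfsg.Agent.SporadicStructure.Co0Base.minus3_mem none⟩, fun i => ?_⟩
  by_cases h : i = none
  · subst h
    show (if (none : GolayPt) = none then (-3 : ℤ) else 1) % 2 = 1
    rw [if_pos rfl]; rfl
  · show (if i = none then (-3 : ℤ) else 1) % 2 = 1
    rw [if_neg h]; rfl

theorem two_smul_coe (x : leechLattice) (i : GolayPt) :
    ((2 • x : leechLattice) : GolayPt → ℤ) i = 2 * (x : GolayPt → ℤ) i := by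
  show ((2 • (x : GolayPt → ℤ)) : GolayPt → ℤ) i = _
  simp

theorem cong_of_four {v : leechLattice} (hv4 : ∀ i, (v : GolayPt → ℤ) i % 4 = 0)
    (hf : (fun i => (((v : GolayPt → ℤ) i / 4 : ℤ) : ZMod 2)) ∈ golayCode) : Cong v 0 ∨ Cong v (e8 none) := by
  have hv : IsLeech 0 (v : GolayPt → ℤ) := isLeech_zero_of v.2 (i := none) (by have := hv4 none; omega)
  have hw := (mem_words_iff _).2 (show ind (support₂ _) ∈ golayCode by rw [ind_support₂]; exact hf)
  set x : GolayPt → ℤ := fun i => (v : GolayPt → ℤ) i / 2 with hx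
  have hx2 : ∀ i, (v : GolayPt → ℤ) i = 2 * x i := by
    intro i
    have := hv4 i
    simp only [hx]
    omega
  have hsum : ∑ i, (v : GolayPt → ℤ) i = 2 * ∑ i, x i := by
    rw [Finset.mul_sum]
    exact Finset.sum_congr rfl fun i _ => hx2 i
  have hs8 := hv.sum
  rw [hsum] at hs8
  unfold Int.ModEq at hs8
  have hcls : ∀ z : GolayPt → ℤ, (∀ i, (z i - x i) % 4 = 0) → cls z 0 ∈ Words := by
    intro z hz
    have e : cls z 0 = (support₂ (fun i => (((v : GolayPt → ℤ) i / 4 : ℤ) : ZMod 2)))ᶜ := by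
      ext i
      rw [mem_cls, Finset.mem_compl (s := support₂ _), mem_support₂, not_not]
      have h1 := hz i
      have h2 := hv4 i
      have h3 := hx2 i
      unfold Int.ModEq
      constructor
      · intro h
        apply cast_eq_zero
        omega
      · intro h
        have h4 := (ZMod.intCast_zmod_eq_zero_iff_dvd _ 2).1 h
        push_cast at h4
        omega
    rw [e]
    exact compl_mem hw
  have hpar : ∀ i, x i % 2 = 0 := by
    intro i
    have := hv4 i
    simp only [hx]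
    omega
  rcases (show (∑ i, x i) % 8 = 0 ∨ (∑ i, x i) % 8 = 4 by omega) with h8 | h8
  · left
    have hL : IsLeech 0 x := isLeech_of_cls (fun i => by have := hpar i; unfold Int.ModEq; omega)
      (by unfold Int.ModEq; omega) (hcls x fun i => by omega)
    refine ⟨⟨x, hL.mem⟩, ?_⟩
    rw [sub_zero]
    apply Subtype.ext
    funext i
    rw [two_smul_coe, hx2 i]
  · right
    have hs : ∑ i, (x - (Pi.single (none : GolayPt) (4 : ℤ) : GolayPt → ℤ)) i = ∑ i, x i - 4 := by
      simp [Finset.sum_sub_distrib]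
    have hL : IsLeech 0 (x - (Pi.single (none : GolayPt) (4 : ℤ) : GolayPt → ℤ)) := by
      refine isLeech_of_cls (fun i => ?_) ?_ (hcls _ fun i => ?_)
      · rw [Pi.sub_apply, Pi.single_apply]
        have := hpar i
        unfold Int.ModEq
        split_ifs <;> omega
      · rw [hs]
        unfold Int.ModEq
        omega
      · rw [Pi.sub_apply, Pi.single_apply]
        split_ifs <;> omega
    refine ⟨⟨_, hL.mem⟩, ?_⟩
    apply Subtype.ext
    funext i
    rw [two_smul_coe]
    show (v : GolayPt → ℤ) i - (e8 none : leechLattice).1 i = _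
    rw [e8_coe, hx2 i]
    show _ = 2 * (x i - (Pi.single (none : GolayPt) (4 : ℤ) : GolayPt → ℤ) i)
    rw [Pi.single_apply, Pi.single_apply]
    split_ifs <;> ring

theorem four_step {e : golayCode} {a : M24} (h : Exact e a) {v : leechLattice}
    (hv4 : ∀ i, (v : GolayPt → ℤ) i % 4 = 0) (hc : Cong ((signCo0 e * permCo0 a) • v) v) :
    (fun i => (((v : GolayPt → ℤ) i / 4 : ℤ) : ZMod 2)) ∘ (a : Equiv.Perm GolayPt).symm +
      (fun i => (((v : GolayPt → ℤ) i / 4 : ℤ) : ZMod 2)) ∈ golayCode := by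
  have hv : IsLeech 0 (v : GolayPt → ℤ) := isLeech_zero_of v.2 (i := none) (by have := hv4 none; omega)
  obtain ⟨u, hu, h1⟩ := even_step h.1 h.2 hv hc
  have h2 := half_mem hu
  have e1 : (fun i => (((v : GolayPt → ℤ) i / 4 : ℤ) : ZMod 2)) ∘ (a : Equiv.Perm GolayPt).symm +
      (fun i => (((v : GolayPt → ℤ) i / 4 : ℤ) : ZMod 2)) = fun i => ((((u : GolayPt → ℤ) i - 0) / 2 : ℤ) : ZMod 2) := by
    funext i
    rw [Pi.add_apply, Function.comp_apply]
    have h3 := h1 i
    obtain ⟨k, hk⟩ : ∃ k, (v : GolayPt → ℤ) i = 4 * k := ⟨(v : GolayPt → ℤ) i / 4, by have := hv4 i; omega⟩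
    obtain ⟨l, hl⟩ : ∃ l, (v : GolayPt → ℤ) ((a : Equiv.Perm GolayPt).symm i) = 4 * l :=
      ⟨(v : GolayPt → ℤ) ((a : Equiv.Perm GolayPt).symm i) / 4, by have := hv4 ((a : Equiv.Perm GolayPt).symm i); omega⟩
    rw [hk, hl] at h3
    rw [hk, hl]
    have e2 : 4 * k / 4 = k := by omega
    have e3 : 4 * l / 4 = l := by omega
    rw [e2, e3]
    rcases sgn_cases ((e : GolayPt → ZMod 2) i) with ⟨-, h4⟩ | ⟨-, h4⟩ <;> rw [h4] at h3
    · have e4 : ((u : GolayPt → ℤ) i - 0) / 2 = l - k := by omega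
      rw [e4]
      push_cast
      have : ∀ x y : ZMod 2, x + y = x - y := by decide
      exact this _ _
    · have e4 : ((u : GolayPt → ℤ) i - 0) / 2 = -l - k := by omega
      rw [e4]
      push_cast
      have : ∀ x y : ZMod 2, x + y = -x - y := by decide
      exact this _ _
  rw [e1]
  exact h2

theorem half_step {e : golayCode} {a : M24} (h : Exact e a) {v : leechLattice}
    (hv : IsLeech 0 (v : GolayPt → ℤ)) (hc : Cong ((signCo0 e * permCo0 a) • v) v) :
    (fun i => ((((v : GolayPt → ℤ) i - 0) / 2 : ℤ) : ZMod 2)) ∘ (a : Equiv.Perm GolayPt).symm =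
      (fun i => ((((v : GolayPt → ℤ) i - 0) / 2 : ℤ) : ZMod 2)) := by
  obtain ⟨u, hu, h1⟩ := even_step h.1 h.2 hv hc
  funext i
  rw [Function.comp_apply]
  have h3 := h1 i
  have p1 := hv.par i
  have p2 := hv.par ((a : Equiv.Perm GolayPt).symm i)
  have p3 := hu.par i
  unfold Int.ModEq at p1 p2 p3
  obtain ⟨k, hk⟩ : ∃ k, (v : GolayPt → ℤ) i = 2 * k := ⟨(v : GolayPt → ℤ) i / 2, by omega⟩
  obtain ⟨l, hl⟩ : ∃ l, (v : GolayPt → ℤ) ((a : Equiv.Perm GolayPt).symm i) = 2 * l :=
    ⟨(v : GolayPt → ℤ) ((a : Equiv.Perm GolayPt).symm i) / 2, by omega⟩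
  obtain ⟨m, hm⟩ : ∃ m, (u : GolayPt → ℤ) i = 2 * m := ⟨(u : GolayPt → ℤ) i / 2, by omega⟩
  rw [hk, hl, hm] at h3
  rw [hk, hl]
  have e2 : (2 * k - 0) / 2 = k := by omega
  have e3 : (2 * l - 0) / 2 = l := by omega
  rw [e2, e3]
  rcases sgn_cases ((e : GolayPt → ZMod 2) i) with ⟨-, h4⟩ | ⟨-, h4⟩ <;> rw [h4] at h3
  · have e4 : l = k + 2 * m := by omega
    rw [e4]
    push_cast
    rw [show (2 : ZMod 2) = 0 from rfl, zero_mul, add_zero]
  · have e4 : l = -k - 2 * m := by omega
    rw [e4]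
    push_cast
    rw [show (2 : ZMod 2) = 0 from rfl, zero_mul, sub_zero]
    have : ∀ x : ZMod 2, -x = x := by decide
    exact this _

/-- **Three exact monomial involutions whose permutations satisfy `Gen3` fix only the frame vector modulo `2 Λ`.** -/
theorem fix_only {a b d : M24} (hG : Gen3 a b d) {x y z : golayCode} (hx : Exact x a) (hy : Exact y b)
    (hz : Exact z d) {v : leechLattice} (h1 : Cong ((signCo0 x * permCo0 a) • v) v)
    (h2 : Cong ((signCo0 y * permCo0 b) • v) v) (h3 : Cong ((signCo0 z * permCo0 d) • v) v) :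
    Cong v 0 ∨ Cong v (e8 none) := by
  have key : ∀ w : leechLattice, (∀ i, (w : GolayPt → ℤ) i % 4 = 0) → Cong w v → Cong w 0 ∨ Cong w (e8 none) := by
    intro w hw4 hc
    have t : ∀ g : Co0, Cong (g • v) v → Cong (g • w) w := fun g hg => ((hc.smul g).trans hg).trans hc.symm
    exact cong_of_four hw4 (hG.y1 _ (four_step hx hw4 (t _ h1)) (four_step hy hw4 (t _ h2))
      (four_step hz hw4 (t _ h3)))
  rcases isLeech_zero_or_one v.2 with hv | hv
  · have hf := half_mem hv
    have hc := hG.y2 _ hf (half_step hx hv h1) (half_step hy hv h2) (half_step hz hv h3)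
    rcases Cfsg.Agent.SporadicStructure.LeechBase.zmod2_cases
      ((fun i => ((((v : GolayPt → ℤ) i - 0) / 2 : ℤ) : ZMod 2)) none) with h0 | h0
    · refine key v (fun i => ?_) (Cong.refl v)
      have h4 := (hc i).trans h0
      have h5 := (ZMod.intCast_zmod_eq_zero_iff_dvd _ 2).1 h4
      push_cast at h5
      have p1 := hv.par i
      unfold Int.ModEq at p1
      omega
    · obtain ⟨w, hw⟩ := exists_odd
      have hcw : Cong (v + 2 • w) v := ⟨w, by abel⟩
      have h6 : Cong (v + 2 • w) 0 ∨ Cong (v + 2 • w) (e8 none) := by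
        refine key _ (fun i => ?_) hcw
        have h4 := (hc i).trans h0
        have h5 : ((((v : GolayPt → ℤ) i - 0) / 2 : ℤ) : ZMod 2) ≠ 0 := by rw [h4]; decide
        have h7 : ¬ (((v : GolayPt → ℤ) i - 0) / 2) % 2 = 0 := fun h => h5 (cast_eq_zero h)
        have p1 := hv.par i
        have p2 := hw i
        unfold Int.ModEq at p1
        rw [AddSubgroup.coe_add, Pi.add_apply, two_smul_coe]
        omega
      rcases h6 with h6 | h6
      · left; exact hcw.symm.trans h6
      · right; exact hcw.symm.trans h6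
  · exfalso
    have hf := hG.y1 _ (odd_step hv h1) (odd_step hv h2) (odd_step hv h3)
    have h4 := dot_code hf one_mem_code
    rw [sum_fO hv v.2] at h4
    exact one_ne_zero h4

end Cfsg.Agent.H995.Co1T
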