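import Cfsg.Agent.H995.Co1T.DataF
import Cfsg.Agent.H995.Co1T.FixOnly
import Cfsg.Agent.H995.Co1F.Trip

/-!
# Monomial elements as products of three exact involutions without common fixed vectors outside the frame
-/

set_option autoImplicit false

namespace Cfsg.Agent.H995.Co1T

open Cfsg
open Cfsg.Agent.SporadicA.Co0Mono
open Cfsg.Agent.H995.Co1F
open Cfsg.Agent.SporadicA.GolayBase (isCode idx pt word word_apply basisMask word_xor)
open Cfsg.Agent.SporadicA.GolayPerm (papp pimg pcomp permOf permOf_apply testBit_pimg_papp idx_permOf)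
open Cfsg.Agent.SporadicStructure.M24El
open Cfsg.Agent.MonsterX.FrameStab (FixesFrame)
open Cfsg.Agent.SporadicStructure.Co0Base (e8 e8_coe)

/-- `e` is a code word with `a(e) = e` -/
def inZ (a e : ℕ) : Bool := isCode e && Nat.beq (pimg a e) e

/-- the check of a record -/
def chkF (q : FRec) : Bool :=
  ok q.c && ok q.a && ok q.b && ok q.d && Nat.beq (pcomp q.a q.a) idP && Nat.beq (pcomp q.b q.b) idP &&
    Nat.beq (pcomp q.d q.d) idP && Nat.beq (pcomp (pcomp q.a q.b) q.d) q.c &&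
    ((List.range 12).all fun k =>
      inZ q.a (q.e.getD k (0, 0, 0)).1 && inZ q.b (q.e.getD k (0, 0, 0)).2.1 && inZ q.d (q.e.getD k (0, 0, 0)).2.2 &&
        Nat.beq ((q.e.getD k (0, 0, 0)).1 ^^^ pimg q.a (q.e.getD k (0, 0, 0)).2.1 ^^^
          pimg (pcomp q.a q.b) (q.e.getD k (0, 0, 0)).2.2) (basisMask k)) &&
    ((List.range 12).all fun k =>
      isCode (q.l.getD k (0, 0, 0)).1 && isCode (q.l.getD k (0, 0, 0)).2.1 && isCode (q.l.getD k (0, 0, 0)).2.2 &&
        Nat.beq (((q.l.getD k (0, 0, 0)).1 ^^^ pimg q.a (q.l.getD k (0, 0, 0)).1) ^^^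
          ((q.l.getD k (0, 0, 0)).2.1 ^^^ pimg q.b (q.l.getD k (0, 0, 0)).2.1) ^^^
          ((q.l.getD k (0, 0, 0)).2.2 ^^^ pimg q.d (q.l.getD k (0, 0, 0)).2.2)) (basisMask k)) &&
    ((List.range 24).all fun k =>
      isCode (q.s.getD k (0, 0, 0, 0)).2.2.2 &&
        Nat.beq (((q.s.getD k (0, 0, 0, 0)).1 ^^^ pimg q.a (q.s.getD k (0, 0, 0, 0)).1) ^^^
          ((q.s.getD k (0, 0, 0, 0)).2.1 ^^^ pimg q.b (q.s.getD k (0, 0, 0, 0)).2.1) ^^^
          ((q.s.getD k (0, 0, 0, 0)).2.2.1 ^^^ pimg q.d (q.s.getD k (0, 0, 0, 0)).2.2.1) ^^^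
          (q.s.getD k (0, 0, 0, 0)).2.2.2) (2 ^ k ^^^ 2 ^ 23))

theorem chkFR : FR.all chkF = true := by decide +kernel

theorem FR_cover : (Cfsg.Agent.H334.Ore.M24Data.D.all fun r =>
    (ok r.c && Nat.beq (pcomp r.c r.c) idP) || FR.any fun q => Nat.beq q.c r.c) = true := by
  decide +kernel

/-- the words fixed by `σ` -/
def Zof (σ : M24) : AddSubgroup golayCode where
  carrier := {e | wordPerm σ e = e}
  zero_mem' := by
    apply Subtype.ext
    funext i
    rfl
  add_mem' := by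
    intro e f he hf
    have h1 : wordPerm σ (e + f) = wordPerm σ e + wordPerm σ f := by
      apply Subtype.ext
      funext i
      rfl
    show wordPerm σ (e + f) = e + f
    rw [h1, show wordPerm σ e = e from he, show wordPerm σ f = f from hf]
  neg_mem' := by
    intro e he
    have h1 : -e = e := by
      apply Subtype.ext
      funext i
      show -(e : GolayPt → ZMod 2) i = (e : GolayPt → ZMod 2) i
      have : ∀ a : ZMod 2, -a = a := by decide
      exact this _
    rw [h1]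
    exact he

theorem add_self_code (e : golayCode) : e + e = 0 := by
  apply Subtype.ext
  funext i
  show (e : GolayPt → ZMod 2) i + (e : GolayPt → ZMod 2) i = 0
  have : ∀ a : ZMod 2, a + a = 0 := by decide
  exact this _

theorem exact_of {σ : M24} (hσ : σ * σ = 1) {e : golayCode} (he : e ∈ Zof σ) : Exact e σ := by
  refine ⟨hσ, ?_⟩
  have h2 : permCo0 σ * signCo0 e * (permCo0 σ)⁻¹ = signCo0 (wordPerm σ e) := perm_mul_sign_mul_inv σ e
  have h3 : permCo0 σ * permCo0 σ = 1 := by rw [← map_mul, hσ, map_one]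
  have h4 : (permCo0 σ)⁻¹ = permCo0 σ := inv_eq_of_mul_eq_one_left h3
  rw [h4, show wordPerm σ e = e from he] at h2
  have h5 : signCo0 e * permCo0 σ * (signCo0 e * permCo0 σ) = signCo0 e * (permCo0 σ * signCo0 e * permCo0 σ) := by
    group
  rw [h5, h2, signCo0_mul_self]

theorem mem_Zof {P e : ℕ} (hP : ok P = true) (h : inZ P e = true) :
    ∃ w : golayCode, w ∈ Zof (el P) ∧ (w : GolayPt → ZMod 2) = word e := by
  unfold inZ at h
  rw [Bool.and_eq_true] at h
  refine ⟨⟨word e, word_mem h.1⟩, ?_, rfl⟩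
  apply Subtype.ext
  show word e ∘ ((el P : M24) : Equiv.Perm GolayPt).symm = word e
  rw [act_word hP, Nat.eq_of_beq_eq_true h.2]

/-- the sum of the three subgroups -/
def Zsum (a b d : M24) : AddSubgroup (GolayPt → ZMod 2) where
  carrier := {w | ∃ x y z : golayCode, x ∈ Zof a ∧ y ∈ Zof b ∧ z ∈ Zof d ∧
    w = (x : GolayPt → ZMod 2) + (wordPerm a y : GolayPt → ZMod 2) + (wordPerm (a * b) z : GolayPt → ZMod 2)}
  zero_mem' := ⟨0, 0, 0, zero_mem _, zero_mem _, zero_mem _, by
    funext i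
    show (0 : ZMod 2) = 0 + 0 + 0
    rfl⟩
  add_mem' := by
    rintro _ _ ⟨x, y, z, hx, hy, hz, rfl⟩ ⟨x', y', z', hx', hy', hz', rfl⟩
    refine ⟨x + x', y + y', z + z', add_mem hx hx', add_mem hy hy', add_mem hz hz', ?_⟩
    funext i
    show (x : GolayPt → ZMod 2) i + (y : GolayPt → ZMod 2) _ + (z : GolayPt → ZMod 2) _ +
      ((x' : GolayPt → ZMod 2) i + (y' : GolayPt → ZMod 2) _ + (z' : GolayPt → ZMod 2) _) =
      (x : GolayPt → ZMod 2) i + (x' : GolayPt → ZMod 2) i + ((y : GolayPt → ZMod 2) _ + (y' : GolayPt → ZMod 2) _) +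
      ((z : GolayPt → ZMod 2) _ + (z' : GolayPt → ZMod 2) _)
    ring
  neg_mem' := by
    intro w hw
    have h1 : -w = w := by
      funext i
      have : ∀ a : ZMod 2, -a = a := by decide
      exact this _
    rw [h1]
    exact hw

/-- the functions orthogonal to `f` -/
def Orth (f : GolayPt → ZMod 2) : AddSubgroup (GolayPt → ZMod 2) where
  carrier := {w | dot f w = 0}
  zero_mem' := by simp [dot]
  add_mem' := by
    intro v w hv hw
    show dot f (v + w) = 0
    rw [dot_add_right, show dot f v = 0 from hv, show dot f w = 0 from hw, add_zero]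
  neg_mem' := by
    intro w hw
    have h1 : -w = w := by
      funext i
      have : ∀ a : ZMod 2, -a = a := by decide
      exact this _
    rw [h1]
    exact hw

theorem symm_of_sq {σ : M24} (hσ : σ * σ = 1) : (σ : Equiv.Perm GolayPt).symm = (σ : Equiv.Perm GolayPt) := by
  apply Equiv.ext
  intro i
  rw [Equiv.symm_apply_eq]
  exact (congrArg (fun x : M24 => (x : Equiv.Perm GolayPt) i) hσ).symm

/-- the pairing with a commutator -/
theorem dot_comm {P : ℕ} (hP : ok P = true) (hs : el P * el P = 1) (f : GolayPt → ZMod 2) (m : ℕ) :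
    dot f (word (m ^^^ pimg P m)) = dot (f ∘ ((el P : M24) : Equiv.Perm GolayPt).symm + f) (word m) := by
  rw [word_xor, dot_add_right, ← act_word hP, dot_comp, symm_of_sq hs, dot_add_left, add_comm]

theorem dot_pow {k : ℕ} (hk : k < 24) (f : GolayPt → ZMod 2) : dot f (word (2 ^ k)) = f (pt k) := by
  unfold dot
  rw [Finset.sum_eq_single (pt k)]
  · rw [word_apply, Cfsg.Agent.SporadicA.GolayBase.idx_pt hk, Nat.testBit_two_pow_self, if_pos rfl, mul_one]
  · intro p _ hp
    rw [word_apply, Nat.testBit_two_pow, if_neg, mul_zero]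
    rw [decide_eq_true_eq]
    intro h
    apply hp
    rw [h, Cfsg.Agent.SporadicA.GolayBase.pt_idx]
  · intro h
    exact absurd (Finset.mem_univ _) h

/-- the conclusions of the check -/
theorem of_chk {q : FRec} (h : chkF q = true) : Gen3 (el q.a) (el q.b) (el q.d) ∧
    ∀ e : golayCode, ∃ x y z : golayCode, Exact x (el q.a) ∧ Exact y (el q.b) ∧ Exact z (el q.d) ∧
      signCo0 e * permCo0 (el q.c) =
        (signCo0 x * permCo0 (el q.a)) * (signCo0 y * permCo0 (el q.b)) * (signCo0 z * permCo0 (el q.d)) := by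
  unfold chkF at h
  simp only [Bool.and_eq_true] at h
  obtain ⟨⟨⟨⟨⟨⟨⟨⟨⟨⟨hc, ha⟩, hb⟩, hd⟩, haa⟩, hbb⟩, hdd⟩, hprod⟩, hall⟩, hl⟩, hs⟩ := h
  have hab := ok_pcomp ha hb
  have ea : el q.a * el q.a = 1 := by rw [← el_pcomp ha ha, Nat.eq_of_beq_eq_true haa, el_idP]
  have eb : el q.b * el q.b = 1 := by rw [← el_pcomp hb hb, Nat.eq_of_beq_eq_true hbb, el_idP]
  have ed : el q.d * el q.d = 1 := by rw [← el_pcomp hd hd, Nat.eq_of_beq_eq_true hdd, el_idP]
  have ec : el q.c = el q.a * el q.b * el q.d := by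
    rw [← el_pcomp ha hb, ← el_pcomp hab hd, Nat.eq_of_beq_eq_true hprod]
  refine ⟨⟨?_, ?_⟩, ?_⟩
  · intro f h1 h2 h3
    refine mem_of_dot fun g hg => ?_
    refine le_Ssum (S := Orth f) (fun k hk => ?_) hg
    have h4 := List.all_eq_true.1 hl k (List.mem_range.2 hk)
    simp only [Bool.and_eq_true] at h4
    obtain ⟨⟨⟨c1, c2⟩, c3⟩, c4⟩ := h4
    show dot f (word (basisMask k)) = 0
    rw [← Nat.eq_of_beq_eq_true c4, word_xor, word_xor, dot_add_right, dot_add_right, dot_comm ha ea,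
      dot_comm hb eb, dot_comm hd ed, dot_code h1 (word_mem c1), dot_code h2 (word_mem c2),
      dot_code h3 (word_mem c3), add_zero, add_zero]
  · intro f hf h1 h2 h3 i
    have h4 := List.all_eq_true.1 hs (idx i) (List.mem_range.2 (Cfsg.Agent.SporadicA.GolayBase.idx_lt i))
    simp only [Bool.and_eq_true] at h4
    obtain ⟨c1, c2⟩ := h4
    have hz : ∀ g : GolayPt → ZMod 2, g + g = 0 := by
      intro g
      funext i
      have : ∀ a : ZMod 2, a + a = 0 := by decide
      exact this _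
    have h5 : dot f (word (2 ^ idx i ^^^ 2 ^ 23)) = 0 := by
      rw [← Nat.eq_of_beq_eq_true c2, word_xor, word_xor, word_xor, dot_add_right, dot_add_right, dot_add_right,
        dot_comm ha ea, dot_comm hb eb, dot_comm hd ed, h1, h2, h3, hz, dot_zero_left, dot_zero_left, dot_zero_left,
        dot_code hf (word_mem c1)]
      rfl
    rw [word_xor, dot_add_right, dot_pow (Cfsg.Agent.SporadicA.GolayBase.idx_lt i), dot_pow (by norm_num),
      Cfsg.Agent.SporadicA.GolayBase.pt_idx] at h5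
    have : ∀ x y : ZMod 2, x + y = 0 → x = y := by decide
    exact this _ _ h5
  · intro e
    have hS : ∀ k < 12, word (basisMask k) ∈ Zsum (el q.a) (el q.b) (el q.d) := by
      intro k hk
      have h1 := List.all_eq_true.1 hall k (List.mem_range.2 hk)
      simp only [Bool.and_eq_true] at h1
      obtain ⟨⟨⟨h1, h2⟩, h3⟩, h4⟩ := h1
      obtain ⟨x, hx, hx'⟩ := mem_Zof ha h1
      obtain ⟨y, hy, hy'⟩ := mem_Zof hb h2
      obtain ⟨z, hz, hz'⟩ := mem_Zof hd h3
      refine ⟨x, y, z, hx, hy, hz, ?_⟩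
      have hy'' : (wordPerm (el q.a) y : GolayPt → ZMod 2) = word (pimg q.a (q.e.getD k (0, 0, 0)).2.1) := by
        rw [← act_word ha, ← hy']; rfl
      have hz'' : (wordPerm (el q.a * el q.b) z : GolayPt → ZMod 2) =
          word (pimg (pcomp q.a q.b) (q.e.getD k (0, 0, 0)).2.2) := by
        rw [← act_word hab, ← hz', el_pcomp ha hb]; rfl
      rw [← Nat.eq_of_beq_eq_true h4, word_xor, word_xor, hx', hy'', hz'']
    obtain ⟨x, y, z, hx, hy, hz, hxyz⟩ := le_Ssum hS e.2
    refine ⟨x, y, z, exact_of ea hx, exact_of eb hy, exact_of ed hz, ?_⟩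
    have he : e = x + wordPerm (el q.a) y + wordPerm (el q.a * el q.b) z := Subtype.ext hxyz
    have h1 : permCo0 (el q.a) * signCo0 y * (permCo0 (el q.a))⁻¹ = signCo0 (wordPerm (el q.a) y) :=
      perm_mul_sign_mul_inv _ _
    have h2 : permCo0 (el q.a * el q.b) * signCo0 z * (permCo0 (el q.a * el q.b))⁻¹ =
        signCo0 (wordPerm (el q.a * el q.b) z) := perm_mul_sign_mul_inv _ _
    rw [he, signCo0_add, signCo0_add, ← h1, ← h2, ec]
    simp only [map_mul]
    group

/-- **Triples.** -/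
theorem triple_fix {c : golayCode} {σ : M24} (hσ : σ * σ ≠ 1) : ∃ x y z : Co0, x * x = 1 ∧ y * y = 1 ∧ z * z = 1 ∧
    signCo0 c * permCo0 σ = x * y * z ∧ ∀ v : leechLattice, Cong (x • v) v → Cong (y • v) v → Cong (z • v) v →
      Cong v 0 ∨ Cong v (e8 none) := by
  rcases Cfsg.Agent.H334.Ore.M24R.cov σ with rfl | ⟨r, hr, x, hx, hconj⟩
  · exact absurd (one_mul 1) hσ
  · have hx' : x = el r.c := hx
    subst hx'
    obtain ⟨u, hu⟩ := isConj_iff.1 hconj
    have h1 := List.all_eq_true.1 FR_cover r hr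
    rw [Bool.or_eq_true, Bool.and_eq_true] at h1
    rcases h1 with ⟨h1, h2⟩ | h1
    · exfalso
      apply hσ
      have h3 : el r.c * el r.c = 1 := by rw [← el_pcomp h1 h1, Nat.eq_of_beq_eq_true h2, el_idP]
      rw [← hu]
      have : u * el r.c * u⁻¹ * (u * el r.c * u⁻¹) = u * (el r.c * el r.c) * u⁻¹ := by group
      rw [this, h3]
      group
    obtain ⟨q, hq, hqr⟩ := List.any_eq_true.1 h1
    obtain ⟨hG, h2⟩ := of_chk (List.all_eq_true.1 chkFR q hq)
    obtain ⟨a, b, d, ha, hb, hd, habd⟩ := h2 (wordPerm u⁻¹ c)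
    rw [Nat.eq_of_beq_eq_true hqr] at habd
    have hsq : ∀ t : Co0, t * t = 1 → permCo0 u * t * (permCo0 u)⁻¹ * (permCo0 u * t * (permCo0 u)⁻¹) = 1 := by
      intro t ht
      have : permCo0 u * t * (permCo0 u)⁻¹ * (permCo0 u * t * (permCo0 u)⁻¹) = permCo0 u * (t * t) * (permCo0 u)⁻¹ := by
        group
      rw [this, ht]
      group
    refine ⟨permCo0 u * (signCo0 a * permCo0 (el q.a)) * (permCo0 u)⁻¹,
      permCo0 u * (signCo0 b * permCo0 (el q.b)) * (permCo0 u)⁻¹,
      permCo0 u * (signCo0 d * permCo0 (el q.d)) * (permCo0 u)⁻¹,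
      hsq _ ha.2, hsq _ hb.2, hsq _ hd.2, ?_, ?_⟩
    · have h3 : permCo0 u * signCo0 (wordPerm u⁻¹ c) * (permCo0 u)⁻¹ = signCo0 c := by
        rw [perm_mul_sign_mul_inv]
        congr 1
        apply Subtype.ext
        funext i
        show (c : GolayPt → ZMod 2) (((u⁻¹ : M24) : Equiv.Perm GolayPt).symm ((u : Equiv.Perm GolayPt).symm i)) = _
        exact congrArg (c : GolayPt → ZMod 2) (Equiv.apply_symm_apply (u : Equiv.Perm GolayPt) i)
      have h4 : permCo0 σ = permCo0 u * permCo0 (el r.c) * (permCo0 u)⁻¹ := by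
        rw [← hu, map_mul, map_mul, map_inv]
      rw [h4, ← h3]
      have h5 : permCo0 u * signCo0 (wordPerm u⁻¹ c) * (permCo0 u)⁻¹ * (permCo0 u * permCo0 (el r.c) * (permCo0 u)⁻¹) =
          permCo0 u * (signCo0 (wordPerm u⁻¹ c) * permCo0 (el r.c)) * (permCo0 u)⁻¹ := by group
      rw [h5, habd]
      group
    · intro v h3 h4 h5
      have hcj : ∀ t : Co0, Cong ((permCo0 u * t * (permCo0 u)⁻¹) • v) v →
          Cong (t • ((permCo0 u)⁻¹ • v)) ((permCo0 u)⁻¹ • v) := by
        intro t ht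
        have h6 := ht.smul (permCo0 u)⁻¹
        rw [← mul_smul] at h6
        have h7 : (permCo0 u)⁻¹ * (permCo0 u * t * (permCo0 u)⁻¹) = t * (permCo0 u)⁻¹ := by group
        rw [h7, mul_smul] at h6
        exact h6
      rcases fix_only hG ha hb hd (hcj _ h3) (hcj _ h4) (hcj _ h5) with h6 | h6
      · left
        have h7 := h6.smul (permCo0 u)
        rwa [smul_inv_smul, Cfsg.Agent.SporadicA.Co0Mono.smul_zero] at h7
      · right
        have h7 := h6.smul (permCo0 u)
        rw [smul_inv_smul, perm_e8] at h7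
        exact h7.trans (cong_e8 _ _)

end Cfsg.Agent.H995.Co1T
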