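import Cfsg.Agent.H995.Co1T.DataW
import Cfsg.Agent.H995.Co1T.Trip
import Cfsg.Agent.H995.Co1F.Invol

/-!
# Changing the involution inside its coset of the monomial group
-/

set_option autoImplicit false

namespace Cfsg.Agent.H995.Co1T

open Cfsg
open Cfsg.Agent.SporadicA.Co0Mono
open Cfsg.Agent.H995.Co1F
open Cfsg.Agent.SporadicA.GolayBase (isCode idx pt word word_apply idx_lt pt_idx idx_pt)
open Cfsg.Agent.SporadicA.GolayPerm (papp pimg pcomp permOf permOf_apply testBit_pimg_papp idx_permOf)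
open Cfsg.Agent.SporadicStructure.M24El
open Cfsg.Agent.MonsterX.FrameStab (FixesFrame)
open Cfsg.Agent.SporadicStructure.Co0Base (e8 e8_coe co0_ext_e8)
open Cfsg.Agent.LeechMat.Elements (vec checkMat sdig)
open Cfsg.Agent.LeechMat.Code (pos)
open Cfsg.Agent.LeechMat.Elements (allTo allTo_iff)

/-- every involutory permutation part can be avoided -/
def Alt (t : Co0) : Prop := ∀ m : M24, m * m = 1 →
  (∃ (c : golayCode) (w : M24), (t * (signCo0 c * permCo0 w)) * (t * (signCo0 c * permCo0 w)) = 1 ∧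
     (w⁻¹ * m) * (w⁻¹ * m) ≠ 1) ∨
  (∃ (c : golayCode) (r : Co0), (t * (signCo0 c * permCo0 m)) * (t * (signCo0 c * permCo0 m)) = 1 ∧ r * r = 1 ∧
     ∀ v : leechLattice, (t * (signCo0 c * permCo0 m)) • (r • v) + r • ((t * (signCo0 c * permCo0 m)) • v) = v)

/-- `t (8 e_i)` is the column of `A` -/
def HasMat (t : Co0) (A : List ℕ) : Prop :=
  ∀ (i : GolayPt) (v : leechLattice), (v : GolayPt → ℤ) = Pi.single i 8 →
      ((t • v : leechLattice) : GolayPt → ℤ) = vec (A.getD (pos i) 0)

/-- the check of a record -/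
def chkW (A : List ℕ) (q : WRec) : Bool :=
  isCode q.c && ok q.w && ok q.v && Nat.beq (pcomp q.w q.v) idP && checkMat 8 q.B q.Y && symm q.B &&
    allTo (fun j => allTo (fun k => sdig (q.B.getD j 0) k ==
      (if q.c.testBit (papp q.w j) then -sdig (A.getD (papp q.w j) 0) k else sdig (A.getD (papp q.w j) 0) k)) 24) 24

theorem pos_eq_idx (p : GolayPt) : pos p = idx p := by
  rcases p with _ | p <;> rfl

theorem sign_e8 (c : golayCode) (j : GolayPt) :
    signCo0 c • e8 j = if (c : GolayPt → ZMod 2) j = 0 then e8 j else -e8 j := by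
  apply Subtype.ext
  rw [signCo0_smul, e8_coe]
  split_ifs with h
  · funext k
    rw [signMap_apply, e8_coe]
    by_cases hk : k = j
    · subst hk; rw [h, sgn_zero, one_mul]
    · rw [Pi.single_eq_of_ne hk, mul_zero]
  · have h1 : (c : GolayPt → ZMod 2) j = 1 := by
      rcases Cfsg.Agent.SporadicStructure.LeechBase.zmod2_cases ((c : GolayPt → ZMod 2) j) with h0 | h0
      · exact absurd h0 h
      · exact h0
    funext k
    rw [signMap_apply, AddSubgroup.coe_neg, Pi.neg_apply, e8_coe]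
    by_cases hk : k = j
    · subst hk; rw [h1, sgn_one, neg_one_mul]
    · rw [Pi.single_eq_of_ne hk, mul_zero, neg_zero]

/-- the element of a record -/
theorem of_chkW {A : List ℕ} {q : WRec} (h : chkW A q = true) {t : Co0} (ht : HasMat t A) :
    ∃ c : golayCode, (t * (signCo0 c * permCo0 (el q.w))) * (t * (signCo0 c * permCo0 (el q.w))) = 1 ∧
      HasMat (t * (signCo0 c * permCo0 (el q.w))) q.B := by
  unfold chkW at h
  simp only [Bool.and_eq_true] at h
  obtain ⟨⟨⟨⟨⟨⟨hc, hw⟩, hv⟩, hwv⟩, hB⟩, hs⟩, hr⟩ := h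
  obtain ⟨t', ht', h1⟩ := exists_invol hB hs
  refine ⟨⟨word q.c, word_mem hc⟩, ?_⟩
  have key : t * (signCo0 ⟨word q.c, word_mem hc⟩ * permCo0 (el q.w)) = t' := by
    apply co0_ext_e8
    intro i
    rw [mul_smul, mul_smul, perm_e8, sign_e8]
    have h2 : ∀ k : GolayPt, vec (q.B.getD (pos i) 0) k =
        (if q.c.testBit (papp q.w (idx i)) then -vec (A.getD (papp q.w (idx i)) 0) k
          else vec (A.getD (papp q.w (idx i)) 0) k) := by
      intro k
      rw [allTo_iff] at hr
      have h3 := hr (idx i) (idx_lt i)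
      rw [allTo_iff] at h3
      have h4 := h3 (idx k) (idx_lt k)
      rw [beq_iff_eq] at h4
      rw [Cfsg.Agent.LeechMat.Elements.vec_apply, Cfsg.Agent.LeechMat.Elements.vec_apply, pos_eq_idx, pos_eq_idx, h4]
    have h3 : idx (((el q.w : M24) : Equiv.Perm GolayPt) i) = papp q.w (idx i) := idx_el_smul hw i
    apply Subtype.ext
    rw [h1 i (e8 i) (e8_coe i)]
    funext k
    rw [h2 k]
    by_cases hb : q.c.testBit (papp q.w (idx i)) = true
    · have h4 : ¬ word q.c (((el q.w : M24) : Equiv.Perm GolayPt) i) = 0 := by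
        rw [word_apply, h3, if_pos hb]; decide
      rw [if_pos hb]
      simp only [h4, if_false]
      rw [Cfsg.Agent.SporadicA.Co0Mono.smul_neg, AddSubgroup.coe_neg, Pi.neg_apply,
        ht _ (e8 (((el q.w : M24) : Equiv.Perm GolayPt) i)) (e8_coe _), pos_eq_idx, h3]
    · have h4 : word q.c (((el q.w : M24) : Equiv.Perm GolayPt) i) = 0 := by
        rw [word_apply, h3, if_neg hb]
      rw [if_neg hb]
      simp only [h4, if_true]
      rw [ht _ (e8 (((el q.w : M24) : Equiv.Perm GolayPt) i)) (e8_coe _), pos_eq_idx, h3]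
  rw [key]
  exact ⟨ht', h1⟩

/-! ### words -/

/-- run a word on a pair -/
def run (W V : List ℕ) : List ℕ → ℕ × ℕ → ℕ × ℕ
  | [], s => s
  | j :: l, s => run W V l (papp (W.getD j idP) s.1, papp (V.getD j idP) s.2)

theorem run_spec {W V : List ℕ} (hW : ∀ P ∈ W, ok P = true) (hV : ∀ P ∈ V, ok P = true) {m : M24}
    (hm : ∀ (j : ℕ) (p : GolayPt), m • (el (W.getD j idP) • p) = el (V.getD j idP) • (m • p)) :
    ∀ (l : List ℕ) (s : ℕ × ℕ), s.1 < 24 → s.2 = idx (m • pt s.1) →
      (run W V l s).1 < 24 ∧ (run W V l s).2 = idx (m • pt (run W V l s).1) := by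
  intro l
  induction l with
  | nil => intro s h1 h2; exact ⟨h1, h2⟩
  | cons j l ih =>
    intro s h1 h2
    have hj := ok_getD hW j
    have hj' := ok_getD hV j
    have e1 : papp (W.getD j idP) s.1 = idx (el (W.getD j idP) • pt s.1) := by
      rw [idx_el_smul hj, idx_pt h1]
    refine ih _ ?_ ?_
    · show papp (W.getD j idP) s.1 < 24
      rw [e1]
      exact idx_lt _
    · show papp (V.getD j idP) s.2 = idx (m • pt (papp (W.getD j idP) s.1))
      rw [e1, pt_idx, hm, idx_el_smul hj', h2]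

/-- no element of `M24` inverts all the elements of the list -/
def chkP (W V : List ℕ) (p0 : ℕ) (P : List (List ℕ)) (ex : ℕ) : Bool :=
  (List.range 24).all fun q => Nat.beq q ex ||
    (Nat.beq (run W V (P.getD q []) (p0, q)).1 p0 && !Nat.beq (run W V (P.getD q []) (p0, q)).2 q)

theorem of_chkP {W V : List ℕ} {p0 : ℕ} {P : List (List ℕ)} {ex : ℕ} (h : chkP W V p0 P ex = true) (hp : p0 < 24)
    (hW : ∀ P ∈ W, ok P = true) (hV : ∀ P ∈ V, ok P = true) {m : M24}
    (hm : ∀ (j : ℕ) (p : GolayPt), m • (el (W.getD j idP) • p) = el (V.getD j idP) • (m • p)) :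
    idx (m • pt p0) = ex := by
  have h1 := List.all_eq_true.1 h (idx (m • pt p0)) (List.mem_range.2 (idx_lt _))
  rw [Bool.or_eq_true, Bool.and_eq_true, Bool.not_eq_true'] at h1
  rcases h1 with h1 | ⟨h1, h2⟩
  · exact Nat.eq_of_beq_eq_true h1
  · exfalso
    have h3 := run_spec hW hV hm (P.getD (idx (m • pt p0)) []) (p0, idx (m • pt p0)) hp rfl
    have h4 := h3.2
    rw [Nat.eq_of_beq_eq_true h1] at h4
    rw [h4, Nat.beq_refl] at h2
    exact Bool.noConfusion h2

/-- the list of permutations of the records -/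
def perms (Q : List WRec) : List ℕ := Q.map WRec.w

/-- the list of inverses of the records -/
def invs (Q : List WRec) : List ℕ := Q.map WRec.v

/-- an element which inverts all the elements of the records -/
theorem inverts {A : List ℕ} {Q : List WRec} (hQ : Q.all (chkW A) = true) {m : M24} (hm : m * m = 1)
    (h : ∀ q ∈ Q, ((el q.w)⁻¹ * m) * ((el q.w)⁻¹ * m) = 1) :
    (∀ P ∈ perms Q, ok P = true) ∧ (∀ P ∈ invs Q, ok P = true) ∧
      ∀ (j : ℕ) (p : GolayPt), m • (el ((perms Q).getD j idP) • p) = el ((invs Q).getD j idP) • (m • p) := by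
  have hok : ∀ q ∈ Q, ok q.w = true ∧ ok q.v = true ∧ el q.v = (el q.w)⁻¹ := by
    intro q hq
    have h1 := List.all_eq_true.1 hQ q hq
    unfold chkW at h1
    simp only [Bool.and_eq_true] at h1
    obtain ⟨⟨⟨⟨⟨⟨-, hw⟩, hv⟩, hwv⟩, -⟩, -⟩, -⟩ := h1
    refine ⟨hw, hv, ?_⟩
    have h2 : el q.w * el q.v = 1 := by rw [← el_pcomp hw hv, Nat.eq_of_beq_eq_true hwv, el_idP]
    exact (inv_eq_of_mul_eq_one_right h2).symm
  refine ⟨?_, ?_, ?_⟩
  · intro P hP
    obtain ⟨q, hq, rfl⟩ := List.mem_map.1 hP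
    exact (hok q hq).1
  · intro P hP
    obtain ⟨q, hq, rfl⟩ := List.mem_map.1 hP
    exact (hok q hq).2.1
  · intro j p
    by_cases hj : j < Q.length
    · have e1 : (perms Q).getD j idP = (Q[j]).w := by
        rw [List.getD_eq_getElem _ _ (by simpa [perms] using hj)]
        simp [perms]
      have e2 : (invs Q).getD j idP = (Q[j]).v := by
        rw [List.getD_eq_getElem _ _ (by simpa [invs] using hj)]
        simp [invs]
      have hq : Q[j] ∈ Q := List.getElem_mem hj
      rw [e1, e2, (hok _ hq).2.2, ← mul_smul, ← mul_smul]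
      congr 1
      have h1 := h _ hq
      have hm' : m⁻¹ = m := inv_eq_of_mul_eq_one_left hm
      have h2 : (el (Q[j]).w)⁻¹ * m = m⁻¹ * el (Q[j]).w := by
        have h3 : (el (Q[j]).w)⁻¹ * m = ((el (Q[j]).w)⁻¹ * m)⁻¹ := (inv_eq_of_mul_eq_one_left h1).symm
        rw [h3, mul_inv_rev, inv_inv]
      rw [h2, hm']
    · have e1 : (perms Q).getD j idP = idP := List.getD_eq_default _ _ (by simpa [perms] using hj)
      have e2 : (invs Q).getD j idP = idP := List.getD_eq_default _ _ (by simpa [invs] using hj)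
      rw [e1, e2, el_idP, one_smul, one_smul]

theorem alt_of {A : List ℕ} {Q : List WRec} (hQ : Q.all (chkW A) = true) {p0 : ℕ} (hp : p0 < 24) {P : List (List ℕ)}
    (hP : chkP (perms Q) (invs Q) p0 P 24 = true) {t : Co0} (ht : HasMat t A) : Alt t := by
  intro m hm
  by_cases h : ∀ q ∈ Q, ((el q.w)⁻¹ * m) * ((el q.w)⁻¹ * m) = 1
  · exfalso
    obtain ⟨h1, h2, h3⟩ := inverts hQ hm h
    have h4 := of_chkP hP hp h1 h2 h3
    have h5 := idx_lt (m • pt p0)
    omega
  · push Not at h
    obtain ⟨q, hq, hne⟩ := h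
    obtain ⟨c, hc, -⟩ := of_chkW (List.all_eq_true.1 hQ q hq) ht
    exact Or.inl ⟨c, el q.w, hc, hne⟩

theorem chkW2 : W2.all (chkW A2) = true := by decide +kernel
theorem chkW3 : W3.all (chkW A3) = true := by decide +kernel
theorem chkW4 : W4.all (chkW A4) = true := by decide +kernel
theorem chkW5 : W5.all (chkW A5) = true := by decide +kernel
theorem chkW6 : W6.all (chkW A6) = true := by decide +kernel
theorem chkP2 : chkP (perms W2) (invs W2) 1 P2 24 = true := by decide +kernel
theorem chkP3 : chkP (perms W3) (invs W3) 2 P3 24 = true := by decide +kernel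
theorem chkP4 : chkP (perms W4) (invs W4) 10 P4 24 = true := by decide +kernel
theorem chkP5 : chkP (perms W5) (invs W5) 10 P5 10 = true := by decide +kernel
theorem chkP6 : chkP (perms W6) (invs W6) 2 P6 24 = true := by decide +kernel

theorem alt2 {t : Co0} (ht : HasMat t A2) : Alt t := alt_of chkW2 (by norm_num) chkP2 ht
theorem alt3 {t : Co0} (ht : HasMat t A3) : Alt t := alt_of chkW3 (by norm_num) chkP3 ht
theorem alt4 {t : Co0} (ht : HasMat t A4) : Alt t := alt_of chkW4 (by norm_num) chkP4 ht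
theorem alt6 {t : Co0} (ht : HasMat t A6) : Alt t := alt_of chkW6 (by norm_num) chkP6 ht

end Cfsg.Agent.H995.Co1T
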