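import Cfsg.Agent.H995.Co1T.Alt

/-!
# The involution `t5`
-/

set_option autoImplicit false

namespace Cfsg.Agent.H995.Co1T

open Cfsg
open Cfsg.Agent.SporadicA.Co0Mono
open Cfsg.Agent.H995.Co1F
open Cfsg.Agent.SporadicA.GolayBase (isCode idx pt word word_apply idx_lt pt_idx idx_pt)
open Cfsg.Agent.SporadicA.GolayPerm (papp pimg pcomp permOf permOf_apply testBit_pimg_papp idx_permOf)
open Cfsg.Agent.SporadicStructure.M24El
open Cfsg.Agent.MonsterX.FrameStab (FixesFrame)
open Cfsg.Agent.SporadicStructure.Co0Base (e8 e8_coe co0_ext_e8 eight_mul_co0)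
open Cfsg.Agent.LeechMat.Elements (vec checkMat sdig)
open Cfsg.Agent.LeechMat.Code (pos)
open Cfsg.Agent.LeechMat.Elements (allTo allTo_iff)

/-- the dodecad -/
def dd5 : ℕ := 340831

/-- the signs -/
def eps (i : ℕ) : ℤ := if dd5.testBit i then -1 else 1

/-- the check of the anticommutator -/
def chkR (B : List ℕ) : Bool :=
  allTo (fun i => allTo (fun j => (eps i + eps j) * sdig (B.getD i 0) j == if Nat.beq i j then 8 else 0) 24) 24

/-- the words lead to all the points, with the images given by `w` -/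
def chkM (W V : List ℕ) (p0 : ℕ) (M : List (List ℕ)) (w : ℕ) : Bool :=
  (List.range 24).all fun x => Nat.beq (run W V (M.getD x []) (p0, p0)).1 x &&
    Nat.beq (run W V (M.getD x []) (p0, p0)).2 (papp w x)

theorem of_chkM {W V : List ℕ} {p0 : ℕ} {M : List (List ℕ)} {w : ℕ} (h : chkM W V p0 M w = true) (hp : p0 < 24)
    (hw : ok w = true) (hW : ∀ P ∈ W, ok P = true) (hV : ∀ P ∈ V, ok P = true) {m : M24}
    (hm : ∀ (j : ℕ) (p : GolayPt), m • (el (W.getD j idP) • p) = el (V.getD j idP) • (m • p))
    (h0 : idx (m • pt p0) = p0) : m = el w := by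
  have h1 : ∀ p : GolayPt, m • p = el w • p := by
    intro p
    have h2 := List.all_eq_true.1 h (idx p) (List.mem_range.2 (idx_lt _))
    rw [Bool.and_eq_true] at h2
    have h3 := run_spec hW hV hm (M.getD (idx p) []) (p0, p0) hp h0.symm
    have h4 := h3.2
    rw [Nat.eq_of_beq_eq_true h2.1, Nat.eq_of_beq_eq_true h2.2, pt_idx] at h4
    have h5 := idx_el_smul hw p
    exact Cfsg.Agent.SporadicA.GolayBase.idx_injective (by rw [h5, ← h4])
  apply Subtype.ext
  apply Equiv.ext
  intro p
  exact h1 p

theorem chkR5 : chkR w5.B = true := by decide +kernel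
theorem chkw5 : chkW A5 w5 = true := by decide +kernel
theorem chkM5 : chkM (perms W5) (invs W5) 10 M5 w5.w = true := by decide +kernel
theorem isCode5 : isCode dd5 = true := by decide +kernel
theorem okw5 : ok w5.w = true := by decide +kernel

theorem alt5 {t : Co0} (ht : HasMat t A5) : Alt t := by
  intro m hm
  by_cases h : ∀ q ∈ W5, ((el q.w)⁻¹ * m) * ((el q.w)⁻¹ * m) = 1
  · right
    obtain ⟨h1, h2, h3⟩ := inverts chkW5 hm h
    have h4 := of_chkP chkP5 (by norm_num) h1 h2 h3
    have h5 : m = el w5.w := of_chkM chkM5 (by norm_num) okw5 h1 h2 h3 h4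
    subst h5
    obtain ⟨c, hc, hB⟩ := of_chkW chkw5 ht
    refine ⟨c, signCo0 ⟨word dd5, word_mem isCode5⟩, hc, signCo0_mul_self _, fun v => ?_⟩
    set s : Co0 := t * (signCo0 c * permCo0 (el w5.w)) with hs
    have hmat : ∀ i j : GolayPt, ((s • e8 i : leechLattice) : GolayPt → ℤ) j = sdig (w5.B.getD (idx i) 0) (idx j) := by
      intro i j
      rw [hB i (e8 i) (e8_coe i), Cfsg.Agent.LeechMat.Elements.vec_apply, pos_eq_idx, pos_eq_idx]
    have hr := chkR5
    unfold chkR at hr
    rw [allTo_iff] at hr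
    have hrel : ∀ i j : GolayPt, (eps (idx i) + eps (idx j)) * ((s • e8 i : leechLattice) : GolayPt → ℤ) j =
        if i = j then 8 else 0 := by
      intro i j
      have h6 := hr (idx i) (idx_lt i)
      rw [allTo_iff] at h6
      have h7 := h6 (idx j) (idx_lt j)
      rw [beq_iff_eq] at h7
      rw [hmat, h7]
      by_cases hij : i = j
      · rw [if_pos hij, hij, Nat.beq_refl, if_pos rfl]
      · rw [if_neg hij, if_neg]
        intro h8
        exact hij (Cfsg.Agent.SporadicA.GolayBase.idx_injective (Nat.eq_of_beq_eq_true h8))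
    have heps : ∀ i : GolayPt, sgn (word dd5 i) = eps (idx i) := by
      intro i
      rw [word_apply]
      unfold eps
      by_cases hb : dd5.testBit (idx i) = true
      · rw [if_pos hb, if_pos hb]; exact sgn_one
      · rw [if_neg hb, if_neg hb]; exact sgn_zero
    apply Subtype.ext
    funext j
    rw [AddSubgroup.coe_add, Pi.add_apply]
    have e1 := eight_mul_co0 s (signCo0 ⟨word dd5, word_mem isCode5⟩ • v) j
    have e2 := eight_mul_co0 s v j
    have e3 : ((signCo0 ⟨word dd5, word_mem isCode5⟩ • (s • v) : leechLattice) : GolayPt → ℤ) j =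
        eps (idx j) * ((s • v : leechLattice) : GolayPt → ℤ) j := by
      rw [signCo0_smul, signMap_apply]
      show sgn (word dd5 j) * _ = _
      rw [heps]
    have e4 : ∀ i, ((signCo0 ⟨word dd5, word_mem isCode5⟩ • v : leechLattice) : GolayPt → ℤ) i =
        eps (idx i) * (v : GolayPt → ℤ) i := by
      intro i
      rw [signCo0_smul, signMap_apply]
      show sgn (word dd5 i) * _ = _
      rw [heps]
    rw [e3]
    have e5 : 8 * (((s • (signCo0 ⟨word dd5, word_mem isCode5⟩ • v) : leechLattice) : GolayPt → ℤ) j +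
        eps (idx j) * ((s • v : leechLattice) : GolayPt → ℤ) j) = 8 * (v : GolayPt → ℤ) j := by
      have e6 : 8 * (((s • (signCo0 ⟨word dd5, word_mem isCode5⟩ • v) : leechLattice) : GolayPt → ℤ) j +
        eps (idx j) * ((s • v : leechLattice) : GolayPt → ℤ) j) =
        8 * ((s • (signCo0 ⟨word dd5, word_mem isCode5⟩ • v) : leechLattice) : GolayPt → ℤ) j +
        eps (idx j) * (8 * ((s • v : leechLattice) : GolayPt → ℤ) j) := by ring
      rw [e6, e1, e2, Finset.mul_sum, ← Finset.sum_add_distrib]
      have e7 : ∀ i, ((signCo0 ⟨word dd5, word_mem isCode5⟩ • v : leechLattice) : GolayPt → ℤ) i *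
          ((s • e8 i : leechLattice) : GolayPt → ℤ) j +
          eps (idx j) * ((v : GolayPt → ℤ) i * ((s • e8 i : leechLattice) : GolayPt → ℤ) j) =
          if i = j then 8 * (v : GolayPt → ℤ) j else 0 := by
        intro i
        rw [e4]
        have e8' : eps (idx i) * (v : GolayPt → ℤ) i * ((s • e8 i : leechLattice) : GolayPt → ℤ) j +
          eps (idx j) * ((v : GolayPt → ℤ) i * ((s • e8 i : leechLattice) : GolayPt → ℤ) j) =
          (v : GolayPt → ℤ) i * ((eps (idx i) + eps (idx j)) * ((s • e8 i : leechLattice) : GolayPt → ℤ) j) := by ring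
        rw [e8', hrel]
        by_cases hij : i = j
        · rw [if_pos hij, if_pos hij, hij]; ring
        · rw [if_neg hij, if_neg hij, mul_zero]
      rw [Finset.sum_congr rfl fun i _ => e7 i, Finset.sum_ite_eq' Finset.univ j, if_pos (Finset.mem_univ j)]
    omega
  · left
    push Not at h
    obtain ⟨q, hq, hne⟩ := h
    obtain ⟨c, hc, -⟩ := of_chkW (List.all_eq_true.1 chkW5 q hq) ht
    exact ⟨c, el q.w, hc, hne⟩

end Cfsg.Agent.H995.Co1T
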