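import Cfsg.Agent.H995.Co1F.Mono
import Cfsg.Agent.Leech.Basic

/-!
# Vectors of `Λ / 2Λ` fixed by monomial involutions
-/

set_option autoImplicit false

namespace Cfsg.Agent.H995.Co1T

open Cfsg Cfsg.Agent.Leech.Code Cfsg.Agent.Leech.Basic
open Cfsg.Agent.SporadicA.Co0Mono
open Cfsg.Agent.H995.Co1F
open Cfsg.Agent.SporadicStructure.Co0Base (e8 e8_coe)

/-! ### the pairing -/

/-- the standard pairing -/
def dot (f g : GolayPt → ZMod 2) : ZMod 2 := ∑ i, f i * g i

theorem dot_add_right (f g h : GolayPt → ZMod 2) : dot f (g + h) = dot f g + dot f h := by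
  simp only [dot, Pi.add_apply, mul_add, Finset.sum_add_distrib]

theorem dot_add_left (f g h : GolayPt → ZMod 2) : dot (f + g) h = dot f h + dot g h := by
  simp only [dot, Pi.add_apply, add_mul, Finset.sum_add_distrib]

theorem dot_zero_left (g : GolayPt → ZMod 2) : dot 0 g = 0 := by
  simp [dot]

theorem dot_comp (σ : Equiv.Perm GolayPt) (f g : GolayPt → ZMod 2) :
    dot f (g ∘ σ.symm) = dot (f ∘ σ) g := by
  unfold dot
  rw [← Equiv.sum_comp σ]
  exact Finset.sum_congr rfl fun i _ => by simp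

theorem dot_eq (f g : GolayPt → ZMod 2) : dot f g = ((support₂ f ∩ support₂ g).card : ZMod 2) := by
  rw [← sum_ind, ind_support₂, ind_support₂]
  rfl

theorem dot_code {f g : GolayPt → ZMod 2} (hf : f ∈ golayCode) (hg : g ∈ golayCode) : dot f g = 0 := by
  rw [dot_eq]
  exact (ZMod.natCast_eq_zero_iff_even).2 (even_inter (support₂_mem hf) (support₂_mem hg))

theorem mem_of_dot {f : GolayPt → ZMod 2} (h : ∀ g ∈ golayCode, dot f g = 0) : f ∈ golayCode := by
  have h1 : support₂ f ∈ Words := by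
    refine mem_of_even_inter fun d hd => ?_
    have h2 := h (ind d) ((mem_words_iff d).1 hd)
    rw [dot_eq, support₂_ind] at h2
    exact (ZMod.natCast_eq_zero_iff_even).1 h2
  have h2 := (mem_words_iff _).1 h1
  rwa [ind_support₂] at h2

theorem one_mem_code : (1 : GolayPt → ZMod 2) ∈ golayCode := by
  have h := (mem_words_iff _).1 univ_mem
  have e : ind (Finset.univ : Finset GolayPt) = 1 := by
    funext i
    simp [ind_apply]
  rwa [e] at h

/-! ### the code words of a vector -/

theorem cast_eq_zero {n : ℤ} (h : n % 2 = 0) : ((n : ℤ) : ZMod 2) = 0 :=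
  (ZMod.intCast_zmod_eq_zero_iff_dvd n 2).2 (by omega)

theorem cast_eq_one {n : ℤ} (h : n % 2 = 1) : ((n : ℤ) : ZMod 2) = 1 := by
  have h1 : n = 2 * (n / 2) + 1 := by omega
  rw [h1]
  push_cast
  rw [show (2 : ZMod 2) = 0 from rfl, zero_mul, zero_add]

theorem half_mem {m : ℤ} {x : GolayPt → ℤ} (h : IsLeech m x) :
    (fun i => (((x i - m) / 2 : ℤ) : ZMod 2)) ∈ golayCode := by
  have h1 := (mem_words_iff _).1 (cls_mem_of_isLeech h)
  have e : (fun i => (((x i - m) / 2 : ℤ) : ZMod 2)) = 1 + ind (cls x m) := by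
    funext i
    rw [Pi.add_apply, Pi.one_apply, ind_apply]
    have hp := h.par i
    by_cases hi : i ∈ cls x m
    · rw [if_pos hi, cast_eq_zero]
      · rfl
      · have := (mem_cls x m i).1 hi
        unfold Int.ModEq at *
        omega
    · rw [if_neg hi, cast_eq_one, add_zero]
      rw [mem_cls] at hi
      unfold Int.ModEq at *
      omega
  rw [e]
  exact golayCode.add_mem one_mem_code h1

/-! ### odd vectors -/

/-- the word of an odd vector -/
def fO (x : GolayPt → ℤ) : GolayPt → ZMod 2 := fun i => (((x i ^ 2 - 1) / 8 : ℤ) : ZMod 2)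

theorem sq_mod {n : ℤ} (h : n % 2 = 1) : ∃ k, n ^ 2 = 8 * k + 1 := by
  obtain ⟨m, hm⟩ : ∃ m, n = 2 * m + 1 := ⟨n / 2, by omega⟩
  obtain ⟨k, hk⟩ := Int.even_mul_succ_self m
  refine ⟨k, ?_⟩
  rw [hm]
  nlinarith [hk]

theorem fO_add {v u : GolayPt → ℤ} (hv : IsLeech 1 v) (hu : u ∈ leechLattice) :
    fO (v + 2 • u) + fO v ∈ golayCode := by
  have key : ∀ i, fO (v + 2 • u) i + fO v i = ((u i * (u i + v i) / 2 : ℤ) : ZMod 2) := by
    intro i
    have hp := hv.par i
    unfold Int.ModEq at hp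
    have h1 : (v + 2 • u) i = v i + 2 * u i := by simp [Pi.add_apply]
    obtain ⟨a, ha⟩ := sq_mod (n := v i) (by omega)
    obtain ⟨b, hb⟩ := sq_mod (n := v i + 2 * u i) (by omega)
    have h2 : u i * (u i + v i) = 2 * (b - a) := by nlinarith [ha, hb]
    unfold fO
    rw [h1, ha, hb, h2]
    have e1 : (8 * b + 1 - 1) / 8 = b := by omega
    have e2 : (8 * a + 1 - 1) / 8 = a := by omega
    have e3 : 2 * (b - a) / 2 = b - a := by omega
    rw [e1, e2, e3]
    push_cast
    have : ∀ x y : ZMod 2, x + y = x - y := by decide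
    exact this _ _
  rcases isLeech_zero_or_one hu with h | h
  · have e : fO (v + 2 • u) + fO v = fun i => (((u i - 0) / 2 : ℤ) : ZMod 2) := by
      funext i
      rw [Pi.add_apply, key]
      have hp := hv.par i
      have hq := h.par i
      unfold Int.ModEq at hp hq
      obtain ⟨k, hk⟩ : ∃ k, u i = 2 * k := ⟨u i / 2, by omega⟩
      obtain ⟨l, hl⟩ : ∃ l, v i = 2 * l + 1 := ⟨v i / 2, by omega⟩
      have e1 : u i * (u i + v i) / 2 = k + 2 * (k * (k + l)) := by
        have : u i * (u i + v i) = 2 * (k + 2 * (k * (k + l))) := by rw [hk, hl]; ring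
        rw [this]
        omega
      have e2 : (u i - 0) / 2 = k := by omega
      rw [e1, e2]
      push_cast
      rw [show (2 : ZMod 2) = 0 from rfl, zero_mul, add_zero]
    rw [e]
    exact half_mem h
  · have h' : IsLeech 0 (u + v) := (h.add hv).congr (by decide)
    have e : fO (v + 2 • u) + fO v = fun i => ((((u + v) i - 0) / 2 : ℤ) : ZMod 2) := by
      funext i
      rw [Pi.add_apply, key]
      have hp := hv.par i
      have hq := h.par i
      unfold Int.ModEq at hp hq
      obtain ⟨k, hk⟩ : ∃ k, u i = 2 * k + 1 := ⟨u i / 2, by omega⟩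
      obtain ⟨l, hl⟩ : ∃ l, v i = 2 * l + 1 := ⟨v i / 2, by omega⟩
      have e1 : u i * (u i + v i) / 2 = (k + l + 1) + 2 * (k * (k + l + 1)) := by
        have : u i * (u i + v i) = 2 * ((k + l + 1) + 2 * (k * (k + l + 1))) := by rw [hk, hl]; ring
        rw [this]
        omega
      have e2 : ((u + v) i - 0) / 2 = k + l + 1 := by
        rw [Pi.add_apply, hk, hl]
        omega
      rw [e1, e2]
      push_cast
      rw [show (2 : ZMod 2) = 0 from rfl, zero_mul, add_zero]
    rw [e]
    exact half_mem h'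

theorem sum_fO {v : GolayPt → ℤ} (hv : IsLeech 1 v) (hv' : v ∈ leechLattice) : dot (fO v) 1 = 1 := by
  have h1 := sixteen_dvd_sqNorm hv'
  have h2 : ∀ i, v i ^ 2 = 8 * ((v i ^ 2 - 1) / 8) + 1 := by
    intro i
    have hp := hv.par i
    unfold Int.ModEq at hp
    obtain ⟨a, ha⟩ := sq_mod (n := v i) (by omega)
    omega
  have h3 : sqNorm v = 8 * ∑ i, ((v i ^ 2 - 1) / 8) + 24 := by
    show ∑ i, v i ^ 2 = _
    rw [Finset.sum_congr rfl fun i _ => h2 i, Finset.sum_add_distrib, ← Finset.mul_sum]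
    congr 1
  have h4 : (∑ i, ((v i ^ 2 - 1) / 8)) % 2 = 1 := by omega
  have h5 := cast_eq_one h4
  unfold dot fO
  rw [← h5]
  push_cast
  exact Finset.sum_congr rfl fun i _ => by rw [Pi.one_apply, mul_one]

/-! ### even vectors -/

/-- An exact monomial involution without fixed points does not negate an odd vector. -/
theorem no_odd {E : Finset GolayPt} (hEw : E ∈ Words) {a : Equiv.Perm GolayPt} (ha : ∀ i, a (a i) = i)
    (hfix : ∀ i, a i ≠ i) {u : GolayPt → ℤ} (hu : IsLeech 1 u) (h1 : ∀ i ∈ E, u (a i) = u i)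
    (h2 : ∀ i, i ∉ E → u (a i) = -u i) : False := by
  have hodd : ∀ i, u i % 2 = 1 := fun i => by
    have := hu.par i
    unfold Int.ModEq at this
    omega
  have haE : ∀ i, i ∈ E → a i ∈ E := by
    intro i hi
    by_contra hc
    have h3 := h2 _ hc
    rw [ha, h1 i hi] at h3
    have := hodd i
    omega
  have haE' : ∀ i, i ∉ E → a i ∉ E := by
    intro i hi hc
    apply hi
    have := haE _ hc
    rwa [ha] at this
  obtain ⟨K, hKw, hKm⟩ : ∃ K ∈ Words, ∀ i, i ∈ K ↔ u i % 4 = 3 := by
    refine ⟨(cls u 1)ᶜ, compl_mem (cls_mem_of_isLeech hu), fun i => ?_⟩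
    rw [Finset.mem_compl, mem_cls]
    have := hodd i
    unfold Int.ModEq
    omega
  -- the sum outside `E` vanishes
  have s1 : ∑ i ∈ Eᶜ, u i = 0 := by
    refine Finset.sum_involution (fun i _ => a i) ?_ ?_ ?_ ?_
    · intro i hi
      rw [h2 i (Finset.mem_compl.1 hi)]
      ring
    · intro i _ _
      exact hfix i
    · intro i hi
      exact Finset.mem_compl.2 (haE' i (Finset.mem_compl.1 hi))
    · intro i _
      exact ha i
  -- the sum over `E`
  set μ : GolayPt → ℤ := fun i => (u i - 1 - 2 * (if i ∈ K then 1 else 0)) / 4 with hμ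
  have hμe : ∀ i, u i = 1 + 2 * (if i ∈ K then 1 else 0) + 4 * μ i := by
    intro i
    have h3 := hodd i
    have h4 := hKm i
    simp only [hμ]
    by_cases hi : i ∈ K
    · rw [if_pos hi]
      have := h4.1 hi
      omega
    · rw [if_neg hi]
      have := (not_iff_not.2 h4).1 hi
      omega
  have s2 : (∑ i ∈ E, μ i) % 2 = 0 := by
    have h3 : ∑ i ∈ E, ((μ i : ℤ) : ZMod 2) = 0 := by
      refine Finset.sum_involution (fun i _ => a i) ?_ ?_ ?_ ?_
      · intro i hi
        have h4 : μ (a i) = μ i := by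
          have h5 : u (a i) = u i := h1 i hi
          have h6 : (a i ∈ K) ↔ (i ∈ K) := by rw [hKm, hKm, h5]
          simp only [hμ, h5, h6]
        rw [h4]
        have : ∀ x : ZMod 2, x + x = 0 := by decide
        exact this _
      · intro i _ _
        exact hfix i
      · intro i hi
        exact haE i hi
      · intro i _
        exact ha i
    have h4 : (((∑ i ∈ E, μ i : ℤ)) : ZMod 2) = 0 := by
      push_cast
      exact h3
    have h5 := (ZMod.intCast_zmod_eq_zero_iff_dvd _ 2).1 h4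
    push_cast at h5
    omega
  have s3 : ∑ i ∈ E, u i = (E.card : ℤ) + 2 * ((K ∩ E).card : ℤ) + 4 * ∑ i ∈ E, μ i := by
    rw [Finset.sum_congr rfl fun i _ => hμe i, Finset.sum_add_distrib, Finset.sum_add_distrib, ← Finset.mul_sum,
      ← Finset.mul_sum]
    have e1 : ∑ i ∈ E, (1 : ℤ) = (E.card : ℤ) := by simp
    have e2 : ∑ i ∈ E, (if i ∈ K then (1 : ℤ) else 0) = ((K ∩ E).card : ℤ) := by
      rw [← Finset.sum_filter, Finset.sum_const, nsmul_eq_mul, mul_one]
      congr 1
      apply congrArg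
      ext i
      rw [Finset.mem_filter, Finset.mem_inter]
      tauto
    rw [e1, e2]
  -- half of the complement is in `K`
  have s4 : (K ∩ Eᶜ).card = (Eᶜ \ K).card := by
    refine Finset.card_bij (fun i _ => a i) ?_ ?_ ?_
    · intro i hi
      rw [Finset.mem_inter, Finset.mem_compl (s := E)] at hi
      rw [Finset.mem_sdiff, Finset.mem_compl (s := E)]
      refine ⟨haE' i hi.2, ?_⟩
      rw [hKm, h2 i hi.2]
      have := (hKm i).1 hi.1
      omega
    · intro i _ j _ hij
      exact a.injective hij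
    · intro i hi
      rw [Finset.mem_sdiff, Finset.mem_compl (s := E)] at hi
      refine ⟨a i, ?_, ha i⟩
      rw [Finset.mem_inter, Finset.mem_compl (s := E)]
      refine ⟨?_, haE' i hi.1⟩
      rw [hKm, h2 i hi.1]
      have h5 := hodd i
      have h6 := (not_iff_not.2 (hKm i)).1 hi.2
      omega
  have s5 : (K ∩ Eᶜ).card + (Eᶜ \ K).card = Eᶜ.card := by
    rw [Finset.inter_comm]
    exact Finset.card_inter_add_card_sdiff _ _
  have s6 : (K ∩ E).card + (K ∩ Eᶜ).card = K.card := by
    have : K ∩ Eᶜ = K \ E := by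
      ext i
      simp
    rw [this]
    exact Finset.card_inter_add_card_sdiff _ _
  have s7 : E.card + Eᶜ.card = 24 := by
    rw [Finset.card_add_card_compl, card_golayPt]
  have s8 := four_dvd_card hKw
  have s9 := four_dvd_card hEw
  have s10 : ∑ i, u i = ∑ i ∈ E, u i + ∑ i ∈ Eᶜ, u i := (Finset.sum_add_sum_compl E u).symm
  have s11 := hu.sum
  rw [s10, s1, s3] at s11
  unfold Int.ModEq at s11
  omega

/-! ### fixed vectors of one element -/

theorem mono_apply (e : golayCode) (a : M24) (v : leechLattice) (i : GolayPt) :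
    (((signCo0 e * permCo0 a) • v : leechLattice) : GolayPt → ℤ) i =
      sgn ((e : GolayPt → ZMod 2) i) * (v : GolayPt → ℤ) ((a : Equiv.Perm GolayPt).symm i) := by
  rw [mul_smul, signCo0_smul, signMap_apply, permCo0_smul, permMap_apply]

theorem sgn_cases (x : ZMod 2) : (x = 0 ∧ sgn x = 1) ∨ (x ≠ 0 ∧ sgn x = -1) := by
  by_cases h : x = 0
  · left; exact ⟨h, if_pos h⟩
  · right; exact ⟨h, if_neg h⟩

theorem cong_eq {y : Co0} {v : leechLattice} (h : Cong (y • v) v) :
    ∃ u : leechLattice, y • v = v + 2 • u ∧ ((y • v : leechLattice) : GolayPt → ℤ) = (v : GolayPt → ℤ) + 2 • (u : GolayPt → ℤ) := by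
  obtain ⟨u, hu⟩ := h
  have h1 : y • v = v + 2 • u := by rw [← hu]; abel
  refine ⟨u, h1, ?_⟩
  rw [h1]
  rfl

theorem odd_step {e : golayCode} {a : M24} {v : leechLattice} (hv : IsLeech 1 (v : GolayPt → ℤ))
    (h : Cong ((signCo0 e * permCo0 a) • v) v) :
    fO v ∘ (a : Equiv.Perm GolayPt).symm + fO v ∈ golayCode := by
  obtain ⟨u, -, hu⟩ := cong_eq h
  have h1 := fO_add hv u.2
  rw [← hu] at h1
  have h2 : fO (((signCo0 e * permCo0 a) • v : leechLattice) : GolayPt → ℤ) =
      fO v ∘ (a : Equiv.Perm GolayPt).symm := by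
    funext i
    unfold fO
    rw [mono_apply]
    rcases sgn_cases ((e : GolayPt → ZMod 2) i) with ⟨-, h3⟩ | ⟨-, h3⟩
    · rw [h3, one_mul]; rfl
    · rw [h3, neg_one_mul, neg_sq]; rfl
  rwa [h2] at h1

theorem even_step {e : golayCode} {a : M24} (ha : a * a = 1)
    (hy : (signCo0 e * permCo0 a) * (signCo0 e * permCo0 a) = 1) {v : leechLattice}
    (hv : IsLeech 0 (v : GolayPt → ℤ)) (h : Cong ((signCo0 e * permCo0 a) • v) v) :
    ∃ u : leechLattice, IsLeech 0 (u : GolayPt → ℤ) ∧
      ∀ i, sgn ((e : GolayPt → ZMod 2) i) * (v : GolayPt → ℤ) ((a : Equiv.Perm GolayPt).symm i) =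
        (v : GolayPt → ℤ) i + 2 * (u : GolayPt → ℤ) i := by
  obtain ⟨u, h1, h2⟩ := cong_eq h
  have h3 : ∀ i, sgn ((e : GolayPt → ZMod 2) i) * (v : GolayPt → ℤ) ((a : Equiv.Perm GolayPt).symm i) =
        (v : GolayPt → ℤ) i + 2 * (u : GolayPt → ℤ) i := by
    intro i
    rw [← mono_apply, h2]
    simp [Pi.add_apply]
  refine ⟨u, ?_, h3⟩
  rcases isLeech_zero_or_one u.2 with h0 | h0
  · exact h0
  exfalso
  have haa : ∀ i, (a : Equiv.Perm GolayPt) ((a : Equiv.Perm GolayPt) i) = i := by
    intro i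
    have := congrArg (fun x : M24 => (x : Equiv.Perm GolayPt) i) ha
    exact this
  have has : ∀ i, (a : Equiv.Perm GolayPt).symm i = (a : Equiv.Perm GolayPt) i := by
    intro i
    rw [Equiv.symm_apply_eq, haa]
  have hvp : ∀ i, (v : GolayPt → ℤ) i % 2 = 0 := fun i => by
    have := hv.par i
    unfold Int.ModEq at this
    omega
  have hup : ∀ i, (u : GolayPt → ℤ) i % 2 = 1 := fun i => by
    have := h0.par i
    unfold Int.ModEq at this
    omega
  by_cases hfix : ∀ i, (a : Equiv.Perm GolayPt) i ≠ i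
  · -- `y u = - u`
    have h4 : (signCo0 e * permCo0 a) • u = -u := by
      have h5 : (signCo0 e * permCo0 a) • ((signCo0 e * permCo0 a) • v) = v := by
        rw [← mul_smul, hy, one_smul]
      rw [h1, Cfsg.Agent.SporadicA.Co0Mono.smul_add, smul_nsmul, h1] at h5
      have h6 : 2 • ((signCo0 e * permCo0 a) • u) = 2 • (-u) := by
        have h7 : v + 2 • u + 2 • ((signCo0 e * permCo0 a) • u) - (v + 2 • u) = v - (v + 2 • u) := by rw [h5]
        rw [add_sub_cancel_left] at h7
        rw [h7, _root_.smul_neg]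
        abel
      apply Subtype.ext
      funext i
      have h8 := congrFun (congrArg (fun x : leechLattice => (x : GolayPt → ℤ)) h6) i
      simp only [two_smul, AddSubgroup.coe_add, Pi.add_apply, AddSubgroup.coe_neg, Pi.neg_apply] at h8
      rw [AddSubgroup.coe_neg, Pi.neg_apply]
      omega
    have h5 : ∀ i, sgn ((e : GolayPt → ZMod 2) i) * (u : GolayPt → ℤ) ((a : Equiv.Perm GolayPt) i) =
        -(u : GolayPt → ℤ) i := by
      intro i
      rw [← has, ← mono_apply, h4, AddSubgroup.coe_neg, Pi.neg_apply]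
    refine no_odd (E := support₂ (e : GolayPt → ZMod 2)) (support₂_mem e.2) haa hfix h0 ?_ ?_
    · intro i hi
      rw [mem_support₂] at hi
      have h6 := h5 i
      rcases sgn_cases ((e : GolayPt → ZMod 2) i) with ⟨h7, h8⟩ | ⟨h7, h8⟩
      · exact absurd h7 hi
      · rw [h8] at h6
        omega
    · intro i hi
      rw [mem_support₂, not_not] at hi
      have h6 := h5 i
      rcases sgn_cases ((e : GolayPt → ZMod 2) i) with ⟨h7, h8⟩ | ⟨h7, h8⟩
      · rw [h8] at h6
        omega
      · exact absurd hi h7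
  · push Not at hfix
    obtain ⟨i, hi⟩ := hfix
    have h4 := h3 i
    rw [has, hi] at h4
    have h5 := hvp i
    have h6 := hup i
    rcases sgn_cases ((e : GolayPt → ZMod 2) i) with ⟨h7, h8⟩ | ⟨h7, h8⟩ <;> rw [h8] at h4 <;> omega

end Cfsg.Agent.H995.Co1T
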