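import Cfsg.Agent.H995.Co1T.Shapes
import Cfsg.Agent.MonsterU.Lam2
import Cfsg.Agent.S0399

/-!
# Every nontrivial element of `Co1` is the image of a product of four involutions of `Co0` without common fixed
vectors in `Λ / 2 Λ`
-/

set_option autoImplicit false

namespace Cfsg.Agent.H995.Co1T

open Cfsg Cfsg.Spor
open Cfsg.Agent.SporadicA.Co0Mono
open Cfsg.Agent.H995.Co1F
open Cfsg.Agent.MonsterX.FrameStab (FixesFrame fixesFrame_one fixesFrame_mul fixesFrame_inv)
open Cfsg.Agent.SporadicStructure.Co0Base (e8 e8_coe)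
open Cfsg.Agent.LeechMat.Elements (vec)
open Cfsg.Agent.MonsterU.Lam2

theorem fixes_neg {z : Co0} (hz : z ∈ Subgroup.center Co0) : FixesFrame z := by
  rw [fixes_iff_cong]
  exact cl_eq.1 (center_smul hz (cl (e8 none)))

theorem exists_not_fixes : ∃ t : Co0, ¬ FixesFrame t := by
  obtain ⟨t, -, htR⟩ := exists_invol chk2 sym2
  refine ⟨t, fun h => ?_⟩
  obtain ⟨c, σ, rfl⟩ := frame_form h
  have h1 := htR (some 2) (e8 (some 2)) (e8_coe _)
  rw [show A2.getD (Cfsg.Agent.LeechMat.Code.pos (some 2)) 0 = R2 from getD2] at h1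
  have h2 : ∀ i : GolayPt, vec R2 i ≠ 8 ∧ vec R2 i ≠ -8 := by decide +kernel
  have h3 := h2 ((σ : Equiv.Perm GolayPt) (some 2))
  rw [← h1, mono_apply, Equiv.symm_apply_apply, e8_coe, Pi.single_eq_same] at h3
  rcases sgn_cases ((c : GolayPt → ZMod 2) ((σ : Equiv.Perm GolayPt) (some 2))) with ⟨-, h4⟩ | ⟨-, h4⟩
  · rw [h4] at h3; exact h3.1 rfl
  · rw [h4] at h3; exact h3.2 rfl

/-- the elements all of whose conjugates fix the frame -/
def coreN : Subgroup Co0 where
  carrier := {g | ∀ k : Co0, FixesFrame (k * g * k⁻¹)}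
  one_mem' := by
    intro k
    rw [mul_one, mul_inv_cancel]
    exact fixesFrame_one
  mul_mem' := by
    intro a b ha hb k
    have : k * (a * b) * k⁻¹ = (k * a * k⁻¹) * (k * b * k⁻¹) := by group
    rw [this]
    exact fixesFrame_mul (ha k) (hb k)
  inv_mem' := by
    intro a ha k
    have : k * a⁻¹ * k⁻¹ = (k * a * k⁻¹)⁻¹ := by group
    rw [this]
    exact fixesFrame_inv (ha k)

instance : coreN.Normal where
  conj_mem := by
    intro a ha n k
    have : k * (n * a * n⁻¹) * k⁻¹ = (k * n) * a * (k * n)⁻¹ := by group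
    rw [this]
    exact ha _

theorem exists_moved {g : Co0} (hg : g ∉ Subgroup.center Co0) : ∃ k : Co0, ¬ FixesFrame (k * g * k⁻¹) := by
  by_contra hc
  push Not at hc
  have hg' : g ∈ coreN := hc
  have hs : IsSimpleGroup (Co0 ⧸ Subgroup.center Co0) := Cfsg.Agent.S0399.result.1
  have hn : (coreN.map (QuotientGroup.mk' (Subgroup.center Co0))).Normal :=
    Subgroup.Normal.map inferInstance _ (QuotientGroup.mk'_surjective _)
  rcases hs.eq_bot_or_eq_top_of_normal _ hn with h | h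
  · have h1 : QuotientGroup.mk' (Subgroup.center Co0) g ∈ coreN.map (QuotientGroup.mk' (Subgroup.center Co0)) :=
      Subgroup.mem_map_of_mem _ hg'
    rw [h, Subgroup.mem_bot] at h1
    exact hg ((QuotientGroup.eq_one_iff _).1 h1)
  · obtain ⟨t, ht⟩ := exists_not_fixes
    apply ht
    have h1 : QuotientGroup.mk' (Subgroup.center Co0) t ∈ coreN.map (QuotientGroup.mk' (Subgroup.center Co0)) := by
      rw [h]; exact Subgroup.mem_top _
    obtain ⟨k, hk, hkt⟩ := Subgroup.mem_map.1 h1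
    have h2 : k⁻¹ * t ∈ Subgroup.center Co0 := QuotientGroup.eq.1 hkt
    have h3 : FixesFrame k := by
      have := hk 1
      rwa [one_mul, inv_one, mul_one] at this
    have h4 : t = k * (k⁻¹ * t) := by group
    rw [h4]
    exact fixesFrame_mul h3 (fixes_neg h2)

/-- the conclusion on the level of `Co0` -/
def Quad (g : Co0) : Prop :=
  ∃ t₁ t₂ t₃ t₄ : Co0, t₁ * t₁ = 1 ∧ t₂ * t₂ = 1 ∧ t₃ * t₃ = 1 ∧ t₄ * t₄ = 1 ∧ t₁ * t₂ * t₃ * t₄ = g ∧
    ∀ v : leechLattice, Cong (t₁ • v) v → Cong (t₂ • v) v → Cong (t₃ • v) v → Cong (t₄ • v) v → Cong v 0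

theorem quad_of {t : Co0} (ht : t * t = 1) (hf : ¬ FixesFrame t) {c : golayCode} {m : M24} (hm : m * m ≠ 1) :
    Quad (t * (signCo0 c * permCo0 m)) := by
  obtain ⟨x, y, z, hx, hy, hz, hxyz, hfix⟩ := triple_fix (c := c) hm
  refine ⟨t, x, y, z, ht, hx, hy, hz, by rw [hxyz]; group, fun v h1 h2 h3 h4 => ?_⟩
  rcases hfix v h2 h3 h4 with h | h
  · exact h
  · exfalso
    apply hf
    rw [fixes_iff_cong]
    exact ((h.symm.smul t).trans h1).trans h

theorem quad_all {g : Co0} (hg : g ∉ Subgroup.center Co0) : ∃ k : Co0, Quad (k * g * k⁻¹) := by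
  obtain ⟨k, hk⟩ := exists_moved hg
  obtain ⟨u, t, h, ht, hu, hh, huth⟩ := step good_all (k * g * k⁻¹)
  have hft : ¬ FixesFrame t := by
    intro hc
    apply hk
    have h1 : k * g * k⁻¹ = u⁻¹ * (t * h) * u := by rw [← huth]; group
    rw [h1]
    exact fixesFrame_mul (fixesFrame_mul (fixesFrame_inv hu) (fixesFrame_mul hc hh)) hu
  have halt : Alt t := ht.2.resolve_left hft
  refine ⟨u * k, ?_⟩
  have e0 : u * k * g * (u * k)⁻¹ = t * h := by rw [← huth]; group
  rw [e0]
  obtain ⟨c, m, rfl⟩ := frame_form hh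
  by_cases hm : m * m = 1
  · rcases halt m hm with ⟨c', w, hsq, hne⟩ | ⟨c', r, hsq, hr, hrel⟩
    · have hfn : FixesFrame (signCo0 c' * permCo0 w) := fixesFrame_mul (fixes_sign _) (fixes_perm _)
      have hft' : ¬ FixesFrame (t * (signCo0 c' * permCo0 w)) := by
        intro hc
        apply hft
        have : t = t * (signCo0 c' * permCo0 w) * (signCo0 c' * permCo0 w)⁻¹ := by group
        rw [this]
        exact fixesFrame_mul hc (fixesFrame_inv hfn)
      have h1 := quad_of hsq hft' (c := wordPerm w⁻¹ (c' + c)) hne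
      have h2 : t * (signCo0 c' * permCo0 w) * (signCo0 (wordPerm w⁻¹ (c' + c)) * permCo0 (w⁻¹ * m)) =
          t * (signCo0 c * permCo0 m) := by
        have h3 : signCo0 (wordPerm w⁻¹ (c' + c)) * permCo0 w⁻¹ = permCo0 w⁻¹ * signCo0 (c' + c) :=
          (perm_mul_sign _ _).symm
        have h4 : signCo0 (c' + c) = signCo0 c' * signCo0 c := signCo0_add _ _
        have h5 : signCo0 c' * signCo0 c' = 1 := signCo0_mul_self _
        rw [map_mul, ← mul_assoc (signCo0 (wordPerm w⁻¹ (c' + c))), h3, h4, map_inv]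
        have h6 : t * (signCo0 c' * permCo0 w) * ((permCo0 w)⁻¹ * (signCo0 c' * signCo0 c) * permCo0 m) =
            t * (signCo0 c' * signCo0 c') * (signCo0 c * permCo0 m) := by group
        rw [h6, h5, mul_one]
      rwa [h2] at h1
    · set s : Co0 := t * (signCo0 c' * permCo0 m) with hs
      refine ⟨s, r, r, signCo0 (wordPerm m⁻¹ (c' + c)), hsq, hr, hr, signCo0_mul_self _, ?_, ?_⟩
      · have h3 : permCo0 m * signCo0 (wordPerm m⁻¹ (c' + c)) = signCo0 (wordPerm m (wordPerm m⁻¹ (c' + c))) * permCo0 m :=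
          perm_mul_sign _ _
        have h4 : wordPerm m (wordPerm m⁻¹ (c' + c)) = c' + c := by
          apply Subtype.ext
          funext i
          show ((c' + c : golayCode) : GolayPt → ZMod 2)
            (((m⁻¹ : M24) : Equiv.Perm GolayPt).symm ((m : Equiv.Perm GolayPt).symm i)) = _
          exact congrArg ((c' + c : golayCode) : GolayPt → ZMod 2) (Equiv.apply_symm_apply (m : Equiv.Perm GolayPt) i)
        rw [h4, signCo0_add] at h3
        have h5 : signCo0 c' * signCo0 c' = 1 := signCo0_mul_self _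
        have h6 : s * r * r * signCo0 (wordPerm m⁻¹ (c' + c)) =
            t * signCo0 c' * (permCo0 m * signCo0 (wordPerm m⁻¹ (c' + c))) := by
          have : s * r * r * signCo0 (wordPerm m⁻¹ (c' + c)) = s * (r * r) * signCo0 (wordPerm m⁻¹ (c' + c)) := by group
          rw [this, hr, hs]
          group
        rw [h6, h3]
        have h7 : t * signCo0 c' * (signCo0 c' * signCo0 c * permCo0 m) =
            t * (signCo0 c' * signCo0 c') * (signCo0 c * permCo0 m) := by group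
        rw [h7, h5, mul_one]
      · intro v h1 h2 _ _
        have h3 := hrel v
        have h4 : Cong (s • (r • v)) v := (h2.smul s).trans h1
        have h5 : Cong (r • (s • v)) v := (h1.smul r).trans h2
        have c1 := cl_eq.2 h4
        have c2 := cl_eq.2 h5
        have c3 : cl (s • (r • v)) + cl (r • (s • v)) = cl v := by rw [← map_add, h3]
        rw [c1, c2, add_self] at c3
        refine cl_eq.1 ?_
        rw [← c3, map_zero]
  · exact quad_of ht.1 hft hm

/-- **(T)** -/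
theorem main (x : Co1) (hx : x ≠ 1) : ∃ t₁ t₂ t₃ t₄ : Co0, t₁ * t₁ = 1 ∧ t₂ * t₂ = 1 ∧ t₃ * t₃ = 1 ∧ t₄ * t₄ = 1 ∧
    IsConj (QuotientGroup.mk (t₁ * t₂ * t₃ * t₄) : Co1) x ∧
    ∀ v : L2, (QuotientGroup.mk t₁ : Co1) • v = v → (QuotientGroup.mk t₂ : Co1) • v = v →
      (QuotientGroup.mk t₃ : Co1) • v = v → (QuotientGroup.mk t₄ : Co1) • v = v → v = 0 := by
  obtain ⟨g, rfl⟩ := QuotientGroup.mk_surjective x
  have hg : g ∉ Subgroup.center Co0 := fun h => hx ((QuotientGroup.eq_one_iff _).2 h)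
  obtain ⟨k, t₁, t₂, t₃, t₄, h1, h2, h3, h4, hprod, hfix⟩ := quad_all hg
  refine ⟨t₁, t₂, t₃, t₄, h1, h2, h3, h4, ?_, ?_⟩
  · rw [hprod]
    refine isConj_iff.2 ⟨(QuotientGroup.mk k : Co1)⁻¹, ?_⟩
    show (QuotientGroup.mk (k⁻¹ * (k * g * k⁻¹) * k⁻¹⁻¹) : Co1) = QuotientGroup.mk g
    congr 1
    group
  · intro v
    obtain ⟨v, rfl⟩ := cl_surjective v
    intro e1 e2 e3 e4
    rw [Cfsg.Agent.MonsterU.Lam2.mk_smul] at e1 e2 e3 e4
    have h := hfix v (cl_eq.1 e1) (cl_eq.1 e2) (cl_eq.1 e3) (cl_eq.1 e4)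
    have := cl_eq.2 h
    rwa [map_zero] at this

end Cfsg.Agent.H995.Co1T
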