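import Cfsg.Agent.H995.Co1T.Alt5
import Cfsg.Agent.H995.Co1F.Std

/-!
# The vectors of the standard shapes are good (with good involutions)
-/

set_option autoImplicit false

namespace Cfsg.Agent.H995.Co1T

open Cfsg
open Cfsg.Agent.SporadicA.Co0Mono
open Cfsg.Agent.MonsterX.FrameStab (FixesFrame fixesFrame_one fixesFrame_mul fixesFrame_inv)
open Cfsg.Agent.SporadicStructure.Co0Base (e8 e8_coe)
open Cfsg.Agent.Leech.Code Cfsg.Agent.Leech.Basic
open Cfsg.Agent.SporadicA.GolayBase (fin mem_fin enc)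
open Cfsg.Agent.LeechMat.Elements (vec checkMat)
open Cfsg.Agent.LeechMat.Code (pos)
open Cfsg.Agent.H995.Co1F
open scoped Pointwise

/-- the involutions which are used -/
def Tp (t : Co0) : Prop := t * t = 1 ∧ (FixesFrame t ∨ Alt t)

/-- `v` is congruent, up to `N`, to the image of some `8 e_j` under an involution which is used -/
def Good (v : leechLattice) : Prop :=
  ∃ n : Co0, FixesFrame n ∧ ∃ t : Co0, Tp t ∧ ∃ j, Cong (n • v) (t • e8 j)

theorem Good.of_cong {v w : leechLattice} (h : Cong v w) (hw : Good w) : Good v := by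
  obtain ⟨n, hn, t, ht, j, hj⟩ := hw
  exact ⟨n, hn, t, ht, j, (h.smul n).trans hj⟩

theorem Good.of_smul {v : leechLattice} {n : Co0} (hn : FixesFrame n) (hw : Good (n • v)) : Good v := by
  obtain ⟨m, hm, t, ht, j, hj⟩ := hw
  exact ⟨m * n, fixesFrame_mul hm hn, t, ht, j, by rwa [mul_smul]⟩

theorem Good.of_eq {v : leechLattice} {t : Co0} (ht : Tp t) {j : GolayPt} (h : v = t • e8 j) : Good v :=
  ⟨1, fixesFrame_one, t, ht, j, by rw [one_smul, h]; exact Cong.refl _⟩

theorem good_e8 (i : GolayPt) : Good (e8 i) :=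
  Good.of_eq (t := 1) ⟨one_mul 1, Or.inl fixesFrame_one⟩ (j := i) (by rw [one_smul])

/-- **The double coset step.** -/
theorem step (hA : ∀ v : leechLattice, sqNorm (v : GolayPt → ℤ) = 64 → Good v) (g : Co0) :
    ∃ u t h : Co0, Tp t ∧ FixesFrame u ∧ FixesFrame h ∧ u * g * u⁻¹ = t * h := by
  obtain ⟨n, hn, t, ht, j, hj⟩ := hA (g • e8 none) (by
    rw [sqNorm_smul, ← v0_eq]
    exact Cfsg.Agent.SporadicA.Co0Card.sqNorm_v0)
  have h1 : FixesFrame (t * n * g) := by
    rw [fixes_iff_cong, mul_smul, mul_smul]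
    have h2 := hj.smul t
    rw [← mul_smul t t, ht.1, one_smul] at h2
    exact h2.trans (cong_e8 _ _)
  refine ⟨n, t, t * n * g * n⁻¹, ht, hn, fixesFrame_mul h1 (fixesFrame_inv hn), ?_⟩
  have : t * (t * n * g * n⁻¹) = (t * t) * (n * g * n⁻¹) := by group
  rw [this, ht.1, one_mul]

/-! ### the standard shapes -/

/-- The final step for an even shape: `P` is the pattern of absolute values. -/
theorem finish {v : leechLattice} {P : GolayPt → ℤ}
    (hv : ∀ i, (v : GolayPt → ℤ) i = P i ∨ (v : GolayPt → ℤ) i = -P i) {g : Equiv.Perm GolayPt} (hg : g ∈ M24)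
    {A ys : List ℕ} (hA : checkMat 8 A ys = true) (hs : symm A = true)
    (halt : ∀ t : Co0, HasMat t A → Alt t) {R : ℕ} (j : GolayPt)
    (hR : A.getD (pos j) 0 = R) (hP : ∀ i, vec R i = P (g.symm i) ∨ vec R i = -P (g.symm i))
    (X W : ℕ) (hX : ∀ i, i ∉ fin X → vec R i = 0)
    (hW : ∀ i, (i ∈ fin W → vec R i % 4 = 2) ∧ (i ∉ fin W → vec R i % 4 = 0)) (hin : chkIn X W = true) : Good v := by
  obtain ⟨t, ht, htR⟩ := exists_invol hA hs
  have hr : ((t • e8 j : leechLattice) : GolayPt → ℤ) = vec R := by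
    rw [htR j (e8 j) (e8_coe j), hR]
  apply Good.of_smul (fixes_perm ⟨g, hg⟩)
  have hw : ∀ i, ((permCo0 ⟨g, hg⟩ • v : leechLattice) : GolayPt → ℤ) i = ((t • e8 j : leechLattice) : GolayPt → ℤ) i ∨
      ((permCo0 ⟨g, hg⟩ • v : leechLattice) : GolayPt → ℤ) i = -((t • e8 j : leechLattice) : GolayPt → ℤ) i := by
    intro i
    rw [permCo0_smul, permMap_apply, hr]
    show (v : GolayPt → ℤ) (g.symm i) = _ ∨ (v : GolayPt → ℤ) (g.symm i) = _
    rcases hv (g.symm i) with h1 | h1 <;> rcases hP i with h2 | h2 <;> rw [h1, h2]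
    · left; rfl
    · right; rw [neg_neg]
    · right; rfl
    · left; rfl
  have hev : vec R none % 2 = 0 := by
    rcases em (none ∈ fin W) with h1 | h1
    · have := (hW none).1 h1; omega
    · have := (hW none).2 h1; omega
  obtain ⟨c, hc⟩ := sign_fix (v := permCo0 ⟨g, hg⟩ • v) (r := t • e8 j)
    (isLeech_zero_of (permCo0 ⟨g, hg⟩ • v).2 (i := none) (by
      rcases hw none with h1 | h1 <;> rw [h1, hr] <;> omega))
    (isLeech_zero_of (t • e8 j).2 (i := none) (by rw [hr]; exact hev)) (X := fin X) (W := fin W)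
    (fun i hi => by rw [hr]; exact hX i hi) (fun i => by rw [hr]; exact hW i)
    (fun d hd hdX => words_in hin hd hdX) hw
  exact Good.of_smul (fixes_sign c) (Good.of_eq ⟨ht, Or.inr (halt t htR)⟩ hc)

/-- `(4^4, 0^20)` -/
theorem good_four {v : leechLattice} {T : Finset GolayPt} (hT : T.card = 4)
    (h1 : ∀ i ∈ T, (v : GolayPt → ℤ) i = 4 ∨ (v : GolayPt → ℤ) i = -4)
    (h0 : ∀ i, i ∉ T → (v : GolayPt → ℤ) i = 0) : Good v := by
  obtain ⟨g, hg, hgT⟩ := four_set hT (T' := fin 15) (card_fin_eq (by norm_num) (by decide +kernel))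
  have hmem : ∀ i, g.symm i ∈ T ↔ i ∈ fin 15 := by
    intro i
    rw [← hgT, ← Finset.inv_smul_mem_iff]
    rfl
  refine finish (P := fun i => if i ∈ T then 4 else 0) (fun i => ?_) hg chk2 sym2 (fun _ h => alt2 h) (some 2) getD2 (fun i => ?_)
    15 0 (by decide +kernel) (by decide +kernel) (by decide +kernel)
  · by_cases hi : i ∈ T
    · simp only [if_pos hi]; exact h1 i hi
    · simp only [if_neg hi]; left; exact h0 i hi
  · have h2 : ∀ i, vec R2 i = if i ∈ fin 15 then 4 else 0 := by decide +kernel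
    left
    rw [h2 i]
    by_cases hi : i ∈ fin 15
    · rw [if_pos hi, if_pos ((hmem i).2 hi)]
    · rw [if_neg hi, if_neg (fun h => hi ((hmem i).1 h))]

/-- `(6, 2^7, 0^16)` -/
theorem good_six {v : leechLattice} {O : Finset GolayPt} (hO : O ∈ octads) {p : GolayPt} (hp : p ∈ O)
    (h6 : (v : GolayPt → ℤ) p = 6 ∨ (v : GolayPt → ℤ) p = -6)
    (h2 : ∀ i ∈ O, i ≠ p → (v : GolayPt → ℤ) i = 2 ∨ (v : GolayPt → ℤ) i = -2)
    (h0 : ∀ i, i ∉ O → (v : GolayPt → ℤ) i = 0) : Good v := by
  obtain ⟨g, hg, hgO, hgp⟩ := octad_flag hO o0_mem hp (p' := some 0) (by decide +kernel)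
  have hmem : ∀ i, g.symm i ∈ O ↔ i ∈ fin o0 := by
    intro i
    rw [← hgO, ← Finset.inv_smul_mem_iff]
    rfl
  have hpt : ∀ i, g.symm i = p ↔ i = some 0 := by
    intro i
    rw [Equiv.symm_apply_eq, hgp]
  refine finish (P := fun i => if i = p then 6 else if i ∈ O then 2 else 0) (fun i => ?_) hg chk3 sym3 (fun _ h => alt3 h) none getD3
    (fun i => ?_) o0 o0 (by decide +kernel) (by decide +kernel) (by decide +kernel)
  · by_cases hi : i = p
    · simp only [if_pos hi]; rw [hi]; exact h6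
    · simp only [if_neg hi]
      by_cases hi' : i ∈ O
      · simp only [if_pos hi']; exact h2 i hi' hi
      · simp only [if_neg hi']; left; exact h0 i hi'
  · have h3 : ∀ i, vec R3 i = if i = some 0 then -6 else if i ∈ fin o0 then 2 else 0 := by decide +kernel
    rw [h3 i]
    by_cases hi : i = some 0
    · right
      rw [if_pos hi, if_pos ((hpt i).2 hi)]
    · left
      rw [if_neg hi, if_neg (fun h => hi ((hpt i).1 h))]
      by_cases hi' : i ∈ fin o0
      · rw [if_pos hi', if_pos ((hmem i).2 hi')]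
      · rw [if_neg hi', if_neg (fun h => hi' ((hmem i).1 h))]

/-- `(4^2, 2^8, 0^14)` -/
theorem good_eight {v : leechLattice} {O : Finset GolayPt} (hO : O ∈ octads) {p q : GolayPt} (hp : p ∉ O) (hq : q ∉ O)
    (hpq : p ≠ q) (hvp : (v : GolayPt → ℤ) p = 4 ∨ (v : GolayPt → ℤ) p = -4)
    (hvq : (v : GolayPt → ℤ) q = 4 ∨ (v : GolayPt → ℤ) q = -4)
    (h2 : ∀ i ∈ O, (v : GolayPt → ℤ) i = 2 ∨ (v : GolayPt → ℤ) i = -2)
    (h0 : ∀ i, i ∉ O → i ≠ p → i ≠ q → (v : GolayPt → ℤ) i = 0) : Good v := by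
  obtain ⟨g, hg, hgO, hgp, hgq⟩ := octad_pair hO o0_mem hp hq hpq (p' := some 1) (q' := some 2) (by decide +kernel)
    (by decide +kernel) (by decide +kernel)
  have hmem : ∀ i, g.symm i ∈ O ↔ i ∈ fin o0 := by
    intro i
    rw [← hgO, ← Finset.inv_smul_mem_iff]
    rfl
  have hpt : ∀ i, g.symm i = p ↔ i = some 1 := by
    intro i
    rw [Equiv.symm_apply_eq, hgp]
  have hqt : ∀ i, g.symm i = q ↔ i = some 2 := by
    intro i
    rw [Equiv.symm_apply_eq, hgq]
  refine finish (P := fun i => if i = p then 4 else if i = q then 4 else if i ∈ O then 2 else 0) (fun i => ?_) hg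
    chk4 sym4 (fun _ h => alt4 h) (some 1) getD4 (fun i => ?_) (o0 + 6) o0 (by decide +kernel) (by decide +kernel) (by decide +kernel)
  · by_cases hi : i = p
    · simp only [if_pos hi]; rw [hi]; exact hvp
    · simp only [if_neg hi]
      by_cases hi1 : i = q
      · simp only [if_pos hi1]; rw [hi1]; exact hvq
      · simp only [if_neg hi1]
        by_cases hi' : i ∈ O
        · simp only [if_pos hi']; exact h2 i hi'
        · simp only [if_neg hi']; left; exact h0 i hi' hi hi1
  · have h3 : ∀ i, vec R4 i = if i = some 1 then 4 else if i = some 2 then 4 else if i ∈ fin o0 then 2 else 0 := by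
      decide +kernel
    left
    rw [h3 i]
    by_cases hi : i = some 1
    · rw [if_pos hi, if_pos ((hpt i).2 hi)]
    · rw [if_neg hi, if_neg (fun h => hi ((hpt i).1 h))]
      by_cases hi1 : i = some 2
      · rw [if_pos hi1, if_pos ((hqt i).2 hi1)]
      · rw [if_neg hi1, if_neg (fun h => hi1 ((hqt i).1 h))]
        by_cases hi' : i ∈ fin o0
        · rw [if_pos hi', if_pos ((hmem i).2 hi')]
        · rw [if_neg hi', if_neg (fun h => hi' ((hmem i).1 h))]

/-- `(4, 2^12, 0^11)` -/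
theorem good_twelve {v : leechLattice} {D : Finset GolayPt} (hD : D ∈ dodecads) {p : GolayPt} (hp : p ∉ D)
    (hvp : (v : GolayPt → ℤ) p = 4 ∨ (v : GolayPt → ℤ) p = -4)
    (h2 : ∀ i ∈ D, (v : GolayPt → ℤ) i = 2 ∨ (v : GolayPt → ℤ) i = -2)
    (h0 : ∀ i, i ∉ D → i ≠ p → (v : GolayPt → ℤ) i = 0) : Good v := by
  obtain ⟨g, hg, hgO, hgp⟩ := dodecad_out hD d0_mem hp (p' := none) (by decide +kernel)
  have hmem : ∀ i, g.symm i ∈ D ↔ i ∈ fin d0 := by
    intro i
    rw [← hgO, ← Finset.inv_smul_mem_iff]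
    rfl
  have hpt : ∀ i, g.symm i = p ↔ i = none := by
    intro i
    rw [Equiv.symm_apply_eq, hgp]
  refine finish (P := fun i => if i = p then 4 else if i ∈ D then 2 else 0) (fun i => ?_) hg
    chk5 sym5 (fun _ h => alt5 h) none getD5 (fun i => ?_) (d0 + 2 ^ 23) d0 (by decide +kernel) (by decide +kernel) (by decide +kernel)
  · by_cases hi : i = p
    · simp only [if_pos hi]; rw [hi]; exact hvp
    · simp only [if_neg hi]
      by_cases hi' : i ∈ D
      · simp only [if_pos hi']; exact h2 i hi'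
      · simp only [if_neg hi']; left; exact h0 i hi' hi
  · have h3 : ∀ i, vec R5 i = if i = none then 4 else if i = some 0 then -2 else if i ∈ fin d0 then 2 else 0 := by
      decide +kernel
    rw [h3 i]
    by_cases hi : i = none
    · left
      rw [if_pos hi, if_pos ((hpt i).2 hi)]
    · rw [if_neg hi, if_neg (fun h => hi ((hpt i).1 h))]
      by_cases hi1 : i = some 0
      · right
        have h5 : i ∈ fin d0 := by rw [hi1]; decide +kernel
        rw [if_pos hi1, if_pos ((hmem i).2 h5)]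
      · left
        rw [if_neg hi1]
        by_cases hi' : i ∈ fin d0
        · rw [if_pos hi', if_pos ((hmem i).2 hi')]
        · rw [if_neg hi', if_neg (fun h => hi' ((hmem i).1 h))]

/-- `(5, (-3)^2, 1^21)` -/
theorem good_odd {v : leechLattice} {p q r : GolayPt} (hpq : p ≠ q) (hpr : p ≠ r) (hqr : q ≠ r)
    (hp : (v : GolayPt → ℤ) p = 5) (hq : (v : GolayPt → ℤ) q = -3) (hr : (v : GolayPt → ℤ) r = -3)
    (h1 : ∀ i, i ≠ p → i ≠ q → i ≠ r → (v : GolayPt → ℤ) i = 1) : Good v := by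
  obtain ⟨g, hg, hgp, hgq, hgr⟩ := three_map hpq hpr hqr (p' := none) (q' := some 0) (r' := some 1) (by decide +kernel)
    (by decide +kernel) (by decide +kernel)
  obtain ⟨t, ht, htR⟩ := exists_invol chk6 sym6
  apply Good.of_smul (fixes_perm ⟨g, hg⟩)
  apply Good.of_eq ⟨ht, Or.inr (alt6 htR)⟩ (j := some 1)
  apply Subtype.ext
  funext i
  rw [htR (some 1) _ (e8_coe (some 1)), show A6.getD (pos (some 1)) 0 = R6 from getD6]
  have h3 : ∀ i, vec R6 i = if i = none then 5 else if i = some 0 then -3 else if i = some 1 then -3 else 1 := by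
    decide +kernel
  rw [permCo0_smul, permMap_apply, h3 i]
  show (v : GolayPt → ℤ) (g.symm i) = _
  by_cases hi : i = none
  · rw [if_pos hi, hi, show g.symm none = p by rw [Equiv.symm_apply_eq, hgp], hp]
  · rw [if_neg hi]
    by_cases hi1 : i = some 0
    · rw [if_pos hi1, hi1, show g.symm (some 0) = q by rw [Equiv.symm_apply_eq, hgq], hq]
    · rw [if_neg hi1]
      by_cases hi2 : i = some 1
      · rw [if_pos hi2, hi2, show g.symm (some 1) = r by rw [Equiv.symm_apply_eq, hgr], hr]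
      · rw [if_neg hi2]
        apply h1
        · rw [Ne, Equiv.symm_apply_eq, hgp]; exact hi
        · rw [Ne, Equiv.symm_apply_eq, hgq]; exact hi1
        · rw [Ne, Equiv.symm_apply_eq, hgr]; exact hi2

end Cfsg.Agent.H995.Co1T
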